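import Cfsg.Agent.Lib.Fi23Max.Checks
import Cfsg.Agent.Lib.CharApp.Burnside

/-!
The collineations of the affine plane of order three form a group of order 432 (helper41).

* `th9`, `planeGroup`, `card_planeGroup`, `planeGroup_solvable`
-/

set_option autoImplicit false
set_option maxRecDepth 100000

namespace Cfsg.Agent.Fi23Max

/-- third point of a line -/
def th9 (x y : Fin 9) : Fin 9 := ⟨thd x y % 9, Nat.mod_lt _ (by norm_num)⟩

theorem th9_val (x y : Fin 9) : (th9 x y : ℕ) = thd x y := by revert x y; decide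

theorem th9_self (x : Fin 9) : th9 x x = x := by revert x; decide

/-- Permutations preserving lines. -/
def planeGroup : Subgroup (Equiv.Perm (Fin 9)) where
  carrier := {σ | ∀ x y, σ (th9 x y) = th9 (σ x) (σ y)}
  one_mem' := fun _ _ => rfl
  mul_mem' := fun {g h} hg hh x y => by
    rw [Equiv.Perm.mul_apply, hh, hg]
    rfl
  inv_mem' := fun {g} hg x y => by
    rw [Equiv.Perm.inv_eq_iff_eq, hg, ← Equiv.Perm.mul_apply, ← Equiv.Perm.mul_apply, mul_inv_cancel,
      Equiv.Perm.one_apply, Equiv.Perm.one_apply]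

/-- A triangle. -/
def Tri (t : Fin 9 × Fin 9 × Fin 9) : Bool :=
  t.2.1 != t.1 && (t.2.2 != t.1 && (t.2.2 != t.2.1 && t.2.2 != th9 t.1 t.2.1))

/-- The map with given images of 0, 1, 3. -/
def ext3 (t : Fin 9 × Fin 9 × Fin 9) (x : Fin 9) : Fin 9 :=
  let p2 := th9 t.1 t.2.1
  let p6 := th9 t.1 t.2.2
  let p8 := th9 t.2.1 t.2.2
  let p4 := th9 t.1 p8
  let p5 := th9 t.2.1 p6
  let p7 := th9 t.1 p5
  match x with
  | 0 => t.1
  | 1 => t.2.1
  | 2 => p2
  | 3 => t.2.2
  | 4 => p4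
  | 5 => p5
  | 6 => p6
  | 7 => p7
  | 8 => p8

theorem plane_lines : th9 0 1 = 2 ∧ th9 0 3 = 6 ∧ th9 1 3 = 8 ∧ th9 0 8 = 4 ∧ th9 1 6 = 5 ∧ th9 0 5 = 7 := by
  decide

theorem ext3_good : ∀ t, Tri t = true → (∀ x y, ext3 t (th9 x y) = th9 (ext3 t x) (ext3 t y)) ∧
    ∀ x y, ext3 t x = ext3 t y → x = y := by decide +kernel

theorem card_tri : (Finset.univ.filter fun t => Tri t = true).card = 432 := by decide +kernel

theorem card_planeGroup : Nat.card planeGroup = 432 := by
  have hker : ∀ (σ : planeGroup) (x : Fin 9), (σ : Equiv.Perm (Fin 9)) x =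
      ext3 ((σ : Equiv.Perm (Fin 9)) 0, (σ : Equiv.Perm (Fin 9)) 1, (σ : Equiv.Perm (Fin 9)) 3) x := by
    intro σ
    obtain ⟨l1, l2, l3, l4, l5, l6⟩ := plane_lines
    set g := (σ : Equiv.Perm (Fin 9)) with hg
    have h : ∀ x y, g (th9 x y) = th9 (g x) (g y) := σ.2
    have e2 := h 0 1
    have e6 := h 0 3
    have e8 := h 1 3
    have e4 := h 0 8
    have e5 := h 1 6
    have e7 := h 0 5
    rw [l1] at e2; rw [l2] at e6; rw [l3] at e8; rw [l4, e8] at e4; rw [l5, e6] at e5; rw [l6, e5] at e7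
    intro x
    fin_cases x <;> simp only [ext3] <;> first | rfl | assumption
  let e : planeGroup ≃ {t : Fin 9 × Fin 9 × Fin 9 // Tri t = true} := Equiv.ofBijective
    (fun σ => ⟨((σ : Equiv.Perm (Fin 9)) 0, (σ : Equiv.Perm (Fin 9)) 1, (σ : Equiv.Perm (Fin 9)) 3), by
      have h2 : (σ : Equiv.Perm (Fin 9)) 2 = th9 ((σ : Equiv.Perm (Fin 9)) 0) ((σ : Equiv.Perm (Fin 9)) 1) := by
        rw [← σ.2, plane_lines.1]
      simp only [Tri, Bool.and_eq_true, bne_iff_ne, ne_eq, ← h2, EmbeddingLike.apply_eq_iff_eq]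
      decide⟩) <| by
    constructor
    · intro σ τ h
      have h' := congrArg Subtype.val h
      exact Subtype.ext (Equiv.ext fun x => by rw [hker σ x, hker τ x]; exact congrArg (fun t => ext3 t x) h')
    · rintro ⟨t, ht⟩
      obtain ⟨h1, h2⟩ := ext3_good t ht
      refine ⟨⟨Equiv.ofBijective (ext3 t) (Finite.injective_iff_bijective.mp fun x y => h2 x y), h1⟩, ?_⟩
      exact Subtype.ext rfl
  rw [Nat.card_congr e, Nat.card_eq_fintype_card, Fintype.card_subtype, card_tri]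

theorem solvable_of_card_two_three {A : Type} [Group A] [Finite A] (a b : ℕ) (h : Nat.card A = 2 ^ a * 3 ^ b) :
    Group.IsSolvable A :=
  CharApp.isSolvable_of_card_eq_prime_pow_mul 2 3 Nat.prime_two Nat.prime_three _ A h a b rfl

instance planeGroup_solvable : Group.IsSolvable planeGroup :=
  solvable_of_card_two_three 4 3 (by rw [card_planeGroup]; norm_num)

end Cfsg.Agent.Fi23Max
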