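import Cfsg.Agent.Lib.Fi23Max.Transport
import Cfsg.Agent.Lib.Fi23Max.Plane

/-!
The automorphisms of blocks, parts and lines on the 324 form a solvable group (helper41).

* `autFrame`, `autFrame_solvable`
-/

set_option autoImplicit false

namespace Cfsg.Agent.Fi23Max

theorem blk_lt (a : Fin 324) : blk a < 9 := by have := a.2; unfold blk; omega

theorem part_lt (a : Fin 324) : part a < 36 := by have := a.2; unfold part; omega

/-- Permutations keeping blocks, parts and both kinds of lines. -/
def autFrame : Subgroup (Equiv.Perm (Fin 324)) where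
  carrier := {π | (∀ a b, blk (π a) = blk (π b) ↔ blk a = blk b) ∧ (∀ a b, part (π a) = part (π b) ↔ part a = part b) ∧
    (∀ a b c, blk a ≠ blk b → blk c = thd (blk a) (blk b) → blk (π c) = thd (blk (π a)) (blk (π b))) ∧
    ∀ a b c, part a = part b → part c = part a → pos c = thd (pos a) (pos b) →
      pos (π c) = thd (pos (π a)) (pos (π b))}
  one_mem' := ⟨fun _ _ => Iff.rfl, fun _ _ => Iff.rfl, fun _ _ _ _ h => h, fun _ _ _ _ _ h => h⟩
  mul_mem' := by
    rintro g h ⟨g1, g2, g3, g4⟩ ⟨h1, h2, h3, h4⟩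
    exact ⟨fun a b => (g1 _ _).trans (h1 a b), fun a b => (g2 _ _).trans (h2 a b),
      fun a b c hne hc => g3 _ _ _ (fun e => hne ((h1 a b).mp e)) (h3 a b c hne hc),
      fun a b c he hc hp => g4 _ _ _ ((h2 a b).mpr he) ((h2 c a).mpr hc) (h4 a b c he hc hp)⟩
  inv_mem' := by
    rintro g ⟨g1, g2, g3, g4⟩
    have e : ∀ a, g (g⁻¹ a) = a := fun a => g.apply_symm_apply a
    refine ⟨fun a b => ?_, fun a b => ?_, fun a b c hne hc => ?_, fun a b c he hc hp => ?_⟩
    · rw [← g1, e, e]
    · rw [← g2, e, e]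
    · have hlt : thd (blk (g⁻¹ a)) (blk (g⁻¹ b)) < 9 := by unfold thd; omega
      let d : Fin 324 := ⟨36 * thd (blk (g⁻¹ a)) (blk (g⁻¹ b)), by omega⟩
      have hd : blk d = thd (blk (g⁻¹ a)) (blk (g⁻¹ b)) := by
        show 36 * thd (blk (g⁻¹ a)) (blk (g⁻¹ b)) / 36 = _
        omega
      have hne' : blk (g⁻¹ a) ≠ blk (g⁻¹ b) := fun h => hne (by rw [← e a, ← e b]; exact (g1 _ _).mpr h)
      have h := g3 _ _ d hne' hd
      rw [e, e, ← hc] at h
      rw [← hd]
      exact (g1 _ _).mp (by rw [e, h])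
    · have hlt : thd (pos (g⁻¹ a)) (pos (g⁻¹ b)) < 9 := by unfold thd; omega
      have hP := part_lt (g⁻¹ a)
      let d : Fin 324 := ⟨9 * part (g⁻¹ a) + thd (pos (g⁻¹ a)) (pos (g⁻¹ b)), by omega⟩
      have hd1 : part d = part (g⁻¹ a) := by
        show (9 * part (g⁻¹ a) + thd (pos (g⁻¹ a)) (pos (g⁻¹ b))) / 9 = _
        omega
      have hd2 : pos d = thd (pos (g⁻¹ a)) (pos (g⁻¹ b)) := by
        show (9 * part (g⁻¹ a) + thd (pos (g⁻¹ a)) (pos (g⁻¹ b))) % 9 = _
        omega
      have he' : part (g⁻¹ a) = part (g⁻¹ b) := by rw [← g2, e, e]; exact he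
      have h := g4 _ _ d he' hd1 hd2
      rw [e, e, ← hp] at h
      have hpd : part (g d) = part c := by rw [(g2 _ _).mpr hd1, e, hc]
      have : g d = c := Fin.ext (by
        show (g d : ℕ) = c
        unfold part at hpd
        unfold pos at h
        omega)
      rw [← hd2, ← this]
      exact congrArg pos (g.symm_apply_apply d)

/-- The first point of a block. -/
def blockPt (A : Fin 9) : Fin 324 := ⟨36 * A, by omega⟩

theorem blk_blockPt (A : Fin 9) : blk (blockPt A) = A := by show 36 * (A : ℕ) / 36 = A; omega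

/-- The effect on blocks. -/
def blkMap (π : Equiv.Perm (Fin 324)) (A : Fin 9) : Fin 9 := ⟨blk (π (blockPt A)), blk_lt _⟩

theorem blkMap_spec (π : autFrame) (a : Fin 324) :
    blk ((π : Equiv.Perm (Fin 324)) a) = blkMap π ⟨blk a, blk_lt a⟩ :=
  (π.2.1 a (blockPt ⟨blk a, blk_lt a⟩)).mpr (blk_blockPt ⟨blk a, blk_lt a⟩).symm

theorem blkMap_mul (π ρ : autFrame) (A : Fin 9) : blkMap (π * ρ : autFrame) A = blkMap π (blkMap ρ A) :=
  Fin.ext (blkMap_spec π _)

theorem blkMap_one (A : Fin 9) : blkMap (1 : autFrame) A = A := Fin.ext (blk_blockPt A)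

/-- The homomorphism to block permutations. -/
def blkHom : autFrame →* Equiv.Perm (Fin 9) where
  toFun π :=
    { toFun := blkMap π
      invFun := blkMap (π⁻¹ : autFrame)
      left_inv := fun A => by rw [← blkMap_mul, inv_mul_cancel, blkMap_one]
      right_inv := fun A => by rw [← blkMap_mul, mul_inv_cancel, blkMap_one] }
  map_one' := Equiv.ext blkMap_one
  map_mul' π ρ := Equiv.ext fun A => blkMap_mul π ρ A

theorem blkHom_mem (π : autFrame) : blkHom π ∈ planeGroup := by
  intro x y
  rcases eq_or_ne x y with rfl | hne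
  · rw [th9_self, th9_self]
  · refine Fin.ext ?_
    rw [th9_val]
    show blk ((π : Equiv.Perm (Fin 324)) (blockPt (th9 x y))) = _
    refine π.2.2.2.1 (blockPt x) (blockPt y) (blockPt (th9 x y)) ?_ ?_
    · rw [blk_blockPt, blk_blockPt]; exact fun e => hne (Fin.ext e)
    · rw [blk_blockPt, blk_blockPt, blk_blockPt, th9_val]

/-- The first point of a part of a block. -/
def partPt (A : Fin 9) (q : Fin 4) : Fin 324 := ⟨36 * A + 9 * q, by omega⟩

theorem blk_ker (π : blkHom.ker) (a : Fin 324) : blk (((π : autFrame) : Equiv.Perm (Fin 324)) a) = blk a := by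
  rw [blkMap_spec]
  have h : blkMap ((π : autFrame) : Equiv.Perm (Fin 324)) ⟨blk a, blk_lt a⟩ = ⟨blk a, blk_lt a⟩ :=
    Equiv.congr_fun (MonoidHom.mem_ker.mp π.2) _
  rw [h]

/-- The effect on the parts of a block. -/
def partMap (π : blkHom.ker) (A : Fin 9) (q : Fin 4) : Fin 4 :=
  ⟨part (((π : autFrame) : Equiv.Perm (Fin 324)) (partPt A q)) % 4, Nat.mod_lt _ (by norm_num)⟩

theorem partMap_spec (π : blkHom.ker) (a : Fin 324) :
    part (((π : autFrame) : Equiv.Perm (Fin 324)) a) =
      4 * blk a + partMap π ⟨blk a, blk_lt a⟩ ⟨part a % 4, Nat.mod_lt _ (by norm_num)⟩ := by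
  set b := partPt ⟨blk a, blk_lt a⟩ ⟨part a % 4, Nat.mod_lt _ (by norm_num)⟩
  have hb : part b = part a := by
    show (36 * blk a + 9 * (part a % 4)) / 9 = part a
    unfold blk part
    omega
  rw [((π : autFrame).2.2.1 a b).mpr hb.symm]
  have h := blk_ker π b
  have hbb : blk b = blk a := by unfold part at hb; unfold blk; omega
  rw [hbb] at h
  show _ = 4 * blk a + part (((π : autFrame) : Equiv.Perm (Fin 324)) b) % 4
  generalize ((π : autFrame) : Equiv.Perm (Fin 324)) b = y at h ⊢
  unfold blk at h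
  unfold blk part
  omega

theorem partMap_mul (π ρ : blkHom.ker) (A : Fin 9) (q : Fin 4) : partMap (π * ρ) A q = partMap π A (partMap ρ A q) := by
  set a := ((ρ : autFrame) : Equiv.Perm (Fin 324)) (partPt A q)
  refine Fin.ext ?_
  show part (((π : autFrame) : Equiv.Perm (Fin 324)) a) % 4 = _
  rw [partMap_spec π a]
  have hA : (⟨blk a, blk_lt a⟩ : Fin 9) = A := by
    refine Fin.ext ?_
    show blk a = (A : ℕ)
    rw [blk_ker ρ]
    show (36 * (A : ℕ) + 9 * (q : ℕ)) / 36 = A
    omega
  rw [hA]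
  show (4 * blk a + ((partMap π A (partMap ρ A q) : Fin 4) : ℕ)) % 4 = _
  omega

theorem partMap_one (A : Fin 9) (q : Fin 4) : partMap 1 A q = q := by
  refine Fin.ext ?_
  show (36 * (A : ℕ) + 9 * (q : ℕ)) / 9 % 4 = q
  omega

/-- The homomorphism to permutations of parts. -/
def partHom : blkHom.ker →* (Fin 9 → Equiv.Perm (Fin 4)) where
  toFun π A :=
    { toFun := partMap π A
      invFun := partMap π⁻¹ A
      left_inv := fun q => by rw [← partMap_mul, inv_mul_cancel, partMap_one]
      right_inv := fun q => by rw [← partMap_mul, mul_inv_cancel, partMap_one] }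
  map_one' := funext fun A => Equiv.ext (partMap_one A)
  map_mul' π ρ := funext fun A => Equiv.ext (partMap_mul π ρ A)

theorem part_ker (π : partHom.ker) (a : Fin 324) :
    part ((((π : blkHom.ker) : autFrame) : Equiv.Perm (Fin 324)) a) = part a := by
  rw [partMap_spec]
  have h : partMap (π : blkHom.ker) ⟨blk a, blk_lt a⟩ ⟨part a % 4, Nat.mod_lt _ (by norm_num)⟩ =
      ⟨part a % 4, Nat.mod_lt _ (by norm_num)⟩ :=
    Equiv.congr_fun (congrFun (MonoidHom.mem_ker.mp π.2) _) _
  rw [h]
  unfold blk part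
  show 4 * ((a : ℕ) / 36) + (a : ℕ) / 9 % 4 = (a : ℕ) / 9
  omega

/-- A point of a part. -/
def posPt (P : Fin 36) (x : Fin 9) : Fin 324 := ⟨9 * P + x, by omega⟩

/-- The effect on the points of a part. -/
def posMap (π : partHom.ker) (P : Fin 36) (x : Fin 9) : Fin 9 :=
  ⟨pos ((((π : blkHom.ker) : autFrame) : Equiv.Perm (Fin 324)) (posPt P x)), Nat.mod_lt _ (by norm_num)⟩

theorem posMap_spec (π : partHom.ker) (a : Fin 324) :
    (((π : blkHom.ker) : autFrame) : Equiv.Perm (Fin 324)) a =
      posPt ⟨part a, part_lt a⟩ (posMap π ⟨part a, part_lt a⟩ ⟨pos a, Nat.mod_lt _ (by norm_num)⟩) := by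
  have ha : posPt ⟨part a, part_lt a⟩ ⟨pos a, Nat.mod_lt _ (by norm_num)⟩ = a := Fin.ext (Nat.div_add_mod _ _)
  refine Fin.ext ?_
  show _ = 9 * part a + pos ((((π : blkHom.ker) : autFrame) : Equiv.Perm (Fin 324)) (posPt _ _))
  rw [ha, ← part_ker π a]
  exact (Nat.div_add_mod _ _).symm

theorem posMap_mul (π ρ : partHom.ker) (P : Fin 36) (x : Fin 9) : posMap (π * ρ) P x = posMap π P (posMap ρ P x) := by
  have hp : ∀ y : Fin 9, (⟨part (posPt P y), part_lt _⟩ : Fin 36) = P := fun y =>
    Fin.ext (show (9 * (P : ℕ) + (y : ℕ)) / 9 = P by omega)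
  have hq : ∀ y : Fin 9, (⟨pos (posPt P y), Nat.mod_lt _ (by norm_num)⟩ : Fin 9) = y := fun y =>
    Fin.ext (show (9 * (P : ℕ) + (y : ℕ)) % 9 = y by omega)
  refine Fin.ext ?_
  show pos ((((π : blkHom.ker) : autFrame) : Equiv.Perm (Fin 324))
    ((((ρ : blkHom.ker) : autFrame) : Equiv.Perm (Fin 324)) (posPt P x))) = _
  rw [posMap_spec ρ (posPt P x), hp, hq]
  rfl

theorem posMap_one (P : Fin 36) (x : Fin 9) : posMap 1 P x = x :=
  Fin.ext (show (9 * (P : ℕ) + (x : ℕ)) % 9 = x by omega)

/-- The homomorphism to collineations of the parts. -/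
def posHom : partHom.ker →* (Fin 36 → planeGroup) where
  toFun π P := ⟨{ toFun := posMap π P
                  invFun := posMap π⁻¹ P
                  left_inv := fun x => by rw [← posMap_mul, inv_mul_cancel, posMap_one]
                  right_inv := fun x => by rw [← posMap_mul, mul_inv_cancel, posMap_one] }, fun x y => by
    refine Fin.ext ?_
    rw [th9_val]
    show pos ((((π : blkHom.ker) : autFrame) : Equiv.Perm (Fin 324)) (posPt P (th9 x y))) = _
    have e1 : ∀ z : Fin 9, part (posPt P z) = P := fun z => show (9 * (P : ℕ) + (z : ℕ)) / 9 = P by omega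
    have e2 : ∀ z : Fin 9, pos (posPt P z) = z := fun z => show (9 * (P : ℕ) + (z : ℕ)) % 9 = z by omega
    exact ((π : blkHom.ker) : autFrame).2.2.2.2 (posPt P x) (posPt P y) (posPt P (th9 x y))
      (by rw [e1, e1]) (by rw [e1, e1]) (by rw [e2, e2, e2, th9_val])⟩
  map_one' := funext fun P => Subtype.ext (Equiv.ext (posMap_one P))
  map_mul' π ρ := funext fun P => Subtype.ext (Equiv.ext (posMap_mul π ρ P))

theorem isSolvable_of_hom {A B : Type} [Group A] [Group B] (f : A →* B) (h1 : Group.IsSolvable f.ker)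
    (h2 : Group.IsSolvable B) : Group.IsSolvable A :=
  Group.isSolvable_of_ker_le_range f.ker.subtype f (by simp)

instance autFrame_solvable : Group.IsSolvable autFrame := by
  have hpos : Group.IsSolvable partHom.ker := by
    refine isSolvable_of_hom posHom ?_ (solvable_of_card_two_three 144 108 ?_)
    · have : Subsingleton posHom.ker := by
        constructor
        intro u v
        have one : ∀ w : posHom.ker, (w : partHom.ker) = 1 := by
          intro w
          refine Subtype.ext (Subtype.ext (Subtype.ext (Equiv.ext fun a => ?_)))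
          rw [posMap_spec]
          have h : posMap (w : partHom.ker) ⟨part a, part_lt a⟩ ⟨pos a, Nat.mod_lt _ (by norm_num)⟩ =
              ⟨pos a, Nat.mod_lt _ (by norm_num)⟩ :=
            Equiv.congr_fun (congrArg Subtype.val (congrFun (MonoidHom.mem_ker.mp w.2) _)) _
          rw [h]
          exact Fin.ext (Nat.div_add_mod _ _)
        exact Subtype.ext ((one u).trans (one v).symm)
      infer_instance
    · rw [Nat.card_pi, Finset.prod_const, Finset.card_univ, Fintype.card_fin, card_planeGroup,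
        show (432 : ℕ) = 2 ^ 4 * 3 ^ 3 by norm_num, mul_pow, ← pow_mul, ← pow_mul]
  have hpart : Group.IsSolvable blkHom.ker := by
    refine isSolvable_of_hom partHom hpos (solvable_of_card_two_three 27 9 ?_)
    rw [Nat.card_pi, Finset.prod_const, Finset.card_univ, Fintype.card_fin, Nat.card_perm, Nat.card_eq_fintype_card,
      Fintype.card_fin, show Nat.factorial 4 = 2 ^ 3 * 3 ^ 1 by rfl, mul_pow, ← pow_mul, ← pow_mul]
  let f : autFrame →* planeGroup := blkHom.codRestrict planeGroup blkHom_mem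
  refine isSolvable_of_hom f ?_ inferInstance
  have he : f.ker = blkHom.ker := by
    ext x
    simp only [MonoidHom.mem_ker, f, Subtype.ext_iff]
    rfl
  rw [he]
  exact hpart

end Cfsg.Agent.Fi23Max
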