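import Cfsg.Agent.Lib.Fi23Max.Vecs

/-!
Finite certificates about the 324 transpositions (helper41).

* `fp_check`, `tab_check`, `struct_check`, `row_check`
* `orb_check0` .. `orb_check3`, `word_check`, `path_check`, `sep_check`
-/

set_option autoImplicit false
set_option maxRecDepth 100000

namespace Cfsg.Agent.Fi23Max

open Cfsg.Agent.CosetEnum
open Cfsg.Agent.Fi23Sylow (PTree pick getT mkTree treeOf runW forTrees forTrees_eq treesOf baseRoots)

/-- third point of a line of the affine plane of order three -/
def thd (x y : ℕ) : ℕ := (6 - x % 3 - y % 3) % 3 + 3 * ((6 - x / 3 - y / 3) % 3)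

/-- a point of the 324 -/
def fp (k : ℕ) : ℕ := fpts.getD k 0

/-- effect of one of the five on the 324 -/
def tab (s k : ℕ) : ℕ := (tabs.getD s []).getD k 0

/-- vector of one of the five -/
def vec : ℕ → ℕ
  | 0 => vec0
  | 1 => vec1
  | 2 => vec2
  | 3 => vec3
  | _ => vec4

/-- the 324 are listed -/
noncomputable def fpOK : Bool :=
  mkTree 4 fIdx 0 fun tf => (List.range 324).all fun k =>
    Nat.blt (fp k) 31671 && Nat.beq (getT tf (fp k)) (k + 1)

theorem fp_check : fpOK = true := by decide +kernel

/-- agreement of a table with a vector -/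
noncomputable def tabOK (s : ℕ) : Bool :=
  mkTree 4 (vec s) 0 fun tv => (List.range 324).all fun k =>
    Nat.blt (tab s k) 324 && (Nat.beq (getT tv (fp k)) (fp (tab s k)) && Nat.beq (tab s (tab s k)) k)

theorem tab_check : ((List.range 5).all tabOK) = true := by decide +kernel

/-- a table preserves the blocks, parts and lines -/
def structOK (s : ℕ) : Bool :=
  ((List.range 324).all fun k => Nat.beq (tab s k / 36) (tab s (36 * (k / 36)) / 36) &&
      Nat.beq (tab s k / 9) (tab s (9 * (k / 9)) / 9)) &&
    (((List.range 9).all fun x => (List.range 9).all fun y =>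
      Nat.beq (tab s (36 * thd x y) / 36) (thd (tab s (36 * x) / 36) (tab s (36 * y) / 36))) &&
    ((List.range 36).all fun P => (List.range 9).all fun x => (List.range 9).all fun y =>
      Nat.beq (tab s (9 * P + thd x y) % 9) (thd (tab s (9 * P + x) % 9) (tab s (9 * P + y) % 9))))

theorem struct_check : ((List.range 5).all structOK) = true := by decide +kernel

/-- the first transposition on the 324 -/
def rowOK : Bool :=
  (List.range 324).all fun k =>
    (Nat.beq (tab 0 k) k == (Nat.beq k 0 || (Nat.beq (k / 36) 0 && !Nat.beq (k / 9) 0))) &&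
    ((Nat.beq (k / 36) 0 || Nat.beq (tab 0 k / 36) (thd 0 (k / 36))) &&
    (!Nat.beq (k / 9) 0 || (Nat.beq (tab 0 k / 9) 0 && Nat.beq (tab 0 k % 9) (thd 0 (k % 9)))))

theorem row_check : (rowOK && Nat.beq (nPt (sIdx.getD 0 0)) (fp 0)) = true := by decide +kernel

/-- a root -/
def root (L : ℕ) : ℕ := nPt (rootIdx.getD L 0)

/-- parent step of a point -/
noncomputable def edgeOK (tp tv : PTree) (dep lb i : ℕ) : Bool :=
  force (getT tv i) fun j => force (getT tp j) fun e =>
    Nat.blt j 31671 && (Nat.blt (e / 64) dep && Nat.beq (e / 8 % 8) lb)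

/-- orbits of the five, for a range of points -/
noncomputable def orbOK (lo : ℕ) : Bool :=
  mkTree 4 orbTab 0 fun tp => mkTree 4 fIdx 0 fun tf => mkTree 4 vec0 0 fun t0 => mkTree 4 vec1 0 fun t1 =>
    mkTree 4 vec2 0 fun t2 => mkTree 4 vec3 0 fun t3 => mkTree 4 vec4 0 fun t4 =>
      (List.range 4000).all fun a => force (Nat.add lo a) fun i => Nat.ble 31671 i ||
        force (getT tp i) fun e => force (getT tf i) fun f =>
          (Nat.blt (e / 8 % 8) 6 && ((Nat.beq (e / 8 % 8) 0 == !Nat.beq f 0) &&
            (Nat.beq f 0 || (Nat.blt (f - 1) 324 && Nat.beq (fp (f - 1)) i)))) &&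
          (bif Nat.beq (e / 64) 0 then Nat.beq (root (e / 8 % 8)) i
           else Nat.blt (e % 8) 5 && edgeOK tp (pick [t0, t1, t2, t3, t4] (e % 8)) (e / 64) (e / 8 % 8) i)

theorem orb_check0 : orbOK 0 = true := by decide +kernel

theorem orb_check1 : orbOK 4000 = true := by decide +kernel

theorem orb_check2 : orbOK 8000 = true := by decide +kernel

theorem orb_check3 : orbOK 12000 = true := by decide +kernel

theorem orb_check4 : orbOK 16000 = true := by decide +kernel

theorem orb_check5 : orbOK 20000 = true := by decide +kernel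

theorem orb_check6 : orbOK 24000 = true := by decide +kernel

theorem orb_check7 : orbOK 28000 = true := by decide +kernel

end Cfsg.Agent.Fi23Max
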