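import Cfsg.Agent.Lib.Fi23Max.Checks

/-!
Certificates for generation, kernel and derived series (helper41).

* `cand_check`, `path_check`, `move_check`, `level_check`
-/

set_option autoImplicit false
set_option maxRecDepth 100000

namespace Cfsg.Agent.Fi23Max

open Cfsg.Agent.CosetEnum
open Cfsg.Agent.Fi23Sylow (PTree pick getT mkTree treeOf runW forTrees forTrees_eq treesOf baseRoots)

/-- separation test of a point against a base point -/
noncomputable def sameSep (ts : List PTree) (seps : List ℕ) (r y : ℕ) : Bool :=
  seps.all fun k => Nat.beq (runW ts (nWord k) y) y == Nat.beq (runW ts (nWord k) r) r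

/-- the candidates are exactly the matches within the orbit -/
noncomputable def candOK (M r j : ℕ) : Bool :=
  forTrees 10 fun ts => mkTree 4 M 0 fun tm => mkTree 4 fIdx 0 fun tf =>
    ((sepIdx.getD j []).all fun k => Nat.blt k named.length && !Nat.beq (getT tf (nPt k)) 0) &&
    ((cand.getD j []).all (fun y => Nat.blt y 31671 && (Nat.beq (getT tm y) 1 && sameSep ts (sepIdx.getD j []) r y)) &&
    ((List.range 31671).all fun y => !Nat.beq (getT tm y) 1 ||
      (!sameSep ts (sepIdx.getD j []) r y || (cand.getD j []).any (fun q => Nat.beq q y))))

theorem cand3_check : candOK fi23h_base3.mask 3 0 = true := by decide +kernel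

theorem cand4_check : candOK fi23h_base4.mask 4 1 = true := by decide +kernel

/-- word of a transposition step: one of the fixed ones, the extra one, or an element of the stabiliser -/
def stepWord (j i : ℕ) : List ℕ :=
  if Nat.blt i gIdx.length then nWord (gIdx.getD i 0)
  else if Nat.beq i gIdx.length then nWord (rootIdx.getD (j + 1) 0)
  else (wordsH.getD 0 []).getD (i - gIdx.length - 1) []

/-- a derivation ends at the point -/
noncomputable def runPath (ts : List PTree) (j : ℕ) (p : List ℕ) : ℕ → ℕ :=
  List.rec (motive := fun _ => ℕ → ℕ) (fun x => x)
    (fun i _ ih x => force (runW ts (stepWord j i) x) fun y => ih y) p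

/-- derivations of all letters from one representative -/
noncomputable def pathOK (ts : List PTree) (j : ℕ) : Bool :=
  (List.range 10).all fun a =>
    ((paths.getD j []).getD a []).all (fun i => Nat.blt i (gIdx.length + 1 + (wordsH.getD 0 []).length)) &&
    (Nat.beq (runPath ts j ((paths.getD j []).getD a []) (nPt (rootIdx.getD (j + 1) 0))) (nPt (letIdx.getD a 0)) &&
      (nWord (letIdx.getD a 0) == [a]))

theorem path_check : (forTrees 10 fun ts => (List.range 5).all (pathOK ts)) = true := by decide +kernel

/-- the indices are in range -/
noncomputable def idxOK : Bool :=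
  mkTree 4 fIdx 0 fun tf =>
    (gIdx.all fun k => Nat.blt k named.length && !Nat.beq (getT tf (nPt k)) 0) &&
      ((rootIdx.all fun k => Nat.blt k named.length) && ((letIdx.all fun k => Nat.blt k named.length) &&
      ((List.range 3).all fun i => Nat.blt (preIdx.getD i 0) 324 && Nat.beq (fp (preIdx.getD i 0)) i)))

theorem idx_check : idxOK = true := by decide +kernel

/-- one element maps the 324 into themselves -/
noncomputable def moveOK (m : ℕ) : Bool :=
  forTrees 10 fun ts => mkTree 4 fIdx 0 fun tf => force ((wordsH.getD 0 []).getD m []).length fun _ =>
    ((wordsH.getD 0 []).getD m []).all (fun a => Nat.blt a 10) &&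
      (List.range 324).all fun k => !Nat.beq (getT tf (runW ts ((wordsH.getD 0 []).getD m []) (fp k))) 0

theorem move0 : moveOK 0 = true := by decide +kernel

theorem move1 : moveOK 1 = true := by decide +kernel

theorem move2 : moveOK 2 = true := by decide +kernel

theorem move3 : moveOK 3 = true := by decide +kernel

theorem move4 : moveOK 4 = true := by decide +kernel

theorem move5 : moveOK 5 = true := by decide +kernel

theorem move6 : moveOK 6 = true := by decide +kernel

/-- concatenation of chosen words -/
def catWords (ws : List (List ℕ)) (ix : List ℕ) : List ℕ := ix.flatMap fun i => ws.getD i []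

/-- the elements of one level are commutators from the level above -/
noncomputable def levelOK (ts : List PTree) (j : ℕ) : Bool :=
  Nat.beq (wordsH.getD (j + 1) []).length (levels.getD j []).length &&
  (((wordsH.getD (j + 1) []).zip (levels.getD j [])).all fun e =>
    e.1.all (fun a => Nat.blt a 10) && (e.2.1.all (fun i => Nat.blt i (wordsH.getD j []).length) &&
    (e.2.2.all (fun i => Nat.blt i (wordsH.getD j []).length) &&
    force (catWords (wordsH.getD j []) e.2.1).length fun _ =>
      baseRoots.all fun b => Nat.beq (runW ts e.1 b)
        (runW ts ((catWords (wordsH.getD j []) e.2.1).reverse ++ (catWords (wordsH.getD j []) e.2.2).reverse ++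
          catWords (wordsH.getD j []) e.2.1 ++ catWords (wordsH.getD j []) e.2.2) b))))

theorem level_check : (forTrees 10 fun ts => (List.range 9).all (levelOK ts) &&
    (Nat.beq (wordsH.getD 0 []).length 7 && (Nat.beq (wordsH.getD 9 []).length 1 &&
      baseRoots.any fun b => !Nat.beq (runW ts ((wordsH.getD 9 []).getD 0 []) b) b))) = true := by
  decide +kernel

end Cfsg.Agent.Fi23Max
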