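import Cfsg.Agent.Lib.Fi23Max.Points

/-!
Stabilisers of initial base points of Fi23 (helper41).

* `levelStep`, `Below`, `below_one` .. `below_five`, `card_five`
-/

set_option autoImplicit false
set_option maxRecDepth 10000

namespace Cfsg.Agent.Fi23Max

open Cfsg.Agent.CosetEnum Cfsg.Agent.CosetEnum.Data
open Cfsg.Agent.Fi23Sylow (chainSize_mul_fix_le)

/-- A subgroup containing the words fixing the roots, of order at most the chain. -/
def Below (D : Data) (hp : D.PermFacts) (l : List OrbitData) (roots : List ℕ)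
    (P : Subgroup (Equiv.Perm (Fin D.n))) : Prop :=
  Setup.chainOK D l roots = true ∧ (∀ b ∈ roots, b < D.n) ∧
    (∀ g : Equiv.Perm (Fin D.n), (∃ w, (∀ a ∈ w, a < D.k) ∧ g = ev (Setup.perm D hp) w) →
      (∀ b ∈ roots, ∀ i : Fin D.n, (i : ℕ) = b → g i = i) → g ∈ P) ∧ Nat.card P ≤ Setup.chainSize l

theorem Below.card_eq {D : Data} {hp : D.PermFacts} {l : List OrbitData} {roots : List ℕ}
    {P : Subgroup (Equiv.Perm (Fin D.n))} (h : Below D hp l roots P) : Nat.card P = Setup.chainSize l := by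
  refine le_antisymm h.2.2.2 ?_
  refine le_trans ?_ (chainSize_mul_fix_le hp l roots h.1 h.2.1 P h.2.2.1)
  exact Nat.le_mul_of_pos_right _ Nat.card_pos

theorem levelStep {D : Data} {hp : D.PermFacts} {O : OrbitData} {l : List OrbitData} {roots : List ℕ}
    {P : Subgroup (Equiv.Perm (Fin D.n))} (h : Below D hp (O :: l) roots P) {r : Fin D.n} (hr : (r : ℕ) = O.root) :
    (∀ g ∈ P, (g r : ℕ) ∈ Data.maskSet D O) ∧
      Below D hp l (O.root :: roots) (P ⊓ MulAction.stabilizer (Equiv.Perm (Fin D.n)) r) := by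
  obtain ⟨hok, hroots, hP, hcard⟩ := h
  change (D.reachOK O && ((O.words.all fun w => roots.all fun b => Nat.beq (lane D.B (D.trace w) b) b) &&
    Setup.chainOK D l (O.root :: roots))) = true at hok
  simp only [Bool.and_eq_true, List.all_eq_true, beq_iff] at hok
  obtain ⟨hreach, hfix, hrest⟩ := hok
  obtain ⟨hrootmem, hsize, hind⟩ := orbit_reach hp hreach
  have hwk : ∀ w ∈ O.words, ∀ a ∈ w, a < D.k := by
    intro w hw
    obtain ⟨j, hj, rfl⟩ := List.getElem_of_mem hw
    unfold Data.reachOK at hreach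
    simp only [Bool.and_eq_true, beq_iff, List.all_eq_true] at hreach
    have := hreach.2.2.2.1 (O.words[j], O.sels[j]'(by have := hreach.1; omega))
      (List.mem_of_getElem (i := j) (h := by simp; have := hreach.1; omega) (by simp))
    unfold Data.orbSelOK at this
    simp only [Bool.and_eq_true, List.all_eq_true, Nat.blt_eq] at this
    exact this.1
  have hwP : ∀ w ∈ O.words, ev (Setup.perm D hp) w ∈ P := fun w hw =>
    hP _ ⟨w, hwk w hw, rfl⟩ fun b hb i hi => by
      have := hfix w hw b hb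
      rw [trace_eq hp w (hwk w hw), lane_pack hp.hB
        (fun j hj => self_lt_two_pow_of_lt (by have := hp.hlg; omega) (tw_lt hp w (hwk w hw) j hj))
        (lt_of_lt_of_le (hroots b hb) hp.hnN)] at this
      exact Fin.ext (by rw [Setup.ev_perm hp w (hwk w hw), hi, this])
  have horbit : ∀ i ∈ Data.maskSet D O, ∃ x ∈ MulAction.orbit P r, ((x : Fin D.n) : ℕ) = i := by
    refine hind ⟨r, MulAction.mem_orbit_self r, hr⟩ fun w hw i hi => ?_
    rintro ⟨x, hx, rfl⟩
    refine ⟨ev (Setup.perm D hp) w x, ?_, Setup.ev_perm hp w (hwk w hw) x⟩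
    exact MulAction.mem_orbit_of_mem_orbit (⟨ev (Setup.perm D hp) w, hwP w hw⟩ : P) hx
  set Q := P ⊓ MulAction.stabilizer (Equiv.Perm (Fin D.n)) r
  have hQP : ∀ g : Equiv.Perm (Fin D.n), (∃ w, (∀ a ∈ w, a < D.k) ∧ g = ev (Setup.perm D hp) w) →
      (∀ b ∈ O.root :: roots, ∀ i : Fin D.n, (i : ℕ) = b → g i = i) → g ∈ Q := fun g hg hb =>
    ⟨hP g hg fun b hb' i hi => hb b (List.mem_cons_of_mem _ hb') i hi, hb O.root List.mem_cons_self r hr⟩
  have hroots' : ∀ b ∈ O.root :: roots, b < D.n := fun b hb => by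
    rcases List.mem_cons.mp hb with rfl | hb
    exacts [hrootmem.1, hroots b hb]
  have hQge : Setup.chainSize l ≤ Nat.card Q :=
    le_trans (Nat.le_mul_of_pos_right _ Nat.card_pos) (chainSize_mul_fix_le hp l _ hrest hroots' Q hQP)
  have hsub : Data.maskSet D O ⊆ (fun x : Fin D.n => (x : ℕ)) '' MulAction.orbit P r := fun i hi => by
    obtain ⟨x, hx, e⟩ := horbit i hi
    exact ⟨x, hx, e⟩
  have horb : O.size ≤ Nat.card (MulAction.orbit P r) := by
    rw [← hsize, Nat.card_coe_set_eq, ← Set.ncard_image_of_injective _ Fin.val_injective]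
    exact Set.ncard_le_ncard hsub (Set.toFinite _)
  have hstab : Nat.card (MulAction.stabilizer P r) = Nat.card Q := Nat.card_congr
    { toFun := fun q => ⟨q.1.1, q.1.2, q.2⟩
      invFun := fun q => ⟨⟨q.1, q.2.1⟩, q.2.2⟩
      left_inv := fun _ => rfl
      right_inv := fun _ => rfl }
  have hmul : Nat.card (MulAction.orbit P r) * Nat.card Q = Nat.card P := by
    rw [← hstab, ← Nat.card_prod]
    exact Nat.card_congr (MulAction.orbitProdStabilizerEquivGroup P r)
  have hle : Nat.card (MulAction.orbit P r) * Nat.card Q ≤ O.size * Setup.chainSize l := hmul ▸ hcard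
  have horb' : Nat.card (MulAction.orbit P r) ≤ O.size := by
    by_contra hlt
    have h1 : 0 < Nat.card Q := Nat.card_pos
    have : O.size * Setup.chainSize l < Nat.card (MulAction.orbit P r) * Nat.card Q :=
      lt_of_le_of_lt (Nat.mul_le_mul_left _ hQge) (Nat.mul_lt_mul_of_pos_right (Nat.lt_of_not_le hlt) h1)
    omega
  refine ⟨fun g hg => ?_, hrest, hroots', hQP, ?_⟩
  · have he := Set.eq_of_subset_of_ncard_le hsub (by
      rw [Set.ncard_image_of_injective _ Fin.val_injective, ← Nat.card_coe_set_eq, hsize]; exact horb')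
      (Set.toFinite _)
    rw [he]
    exact ⟨g r, MulAction.mem_orbit r (⟨g, hg⟩ : P), rfl⟩
  · have hs : 0 < O.size := by
      rw [← hsize]
      exact (Set.ncard_pos ((Set.finite_lt_nat D.n).subset fun i hi => hi.1)).mpr ⟨_, hrootmem⟩
    exact Nat.le_of_mul_le_mul_left (le_trans (Nat.mul_le_mul_right _ horb) hle) hs

/-- A point given by a number. -/
noncomputable def bp (i : ℕ) (h : i < fi23h.n) : Pt := ⟨i, h⟩

theorem root_lt_n {i : ℕ} (h : i < 31671) : i < fi23h.n := by rw [n_eq]; exact h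

/-- The five first base points. -/
noncomputable def b0 : Pt := bp 0 (root_lt_n (by norm_num))
/-- second -/
noncomputable def b1 : Pt := bp 1 (root_lt_n (by norm_num))
/-- third -/
noncomputable def b2 : Pt := bp 2 (root_lt_n (by norm_num))
/-- fourth -/
noncomputable def b3 : Pt := bp 3 (root_lt_n (by norm_num))
/-- fifth -/
noncomputable def b4 : Pt := bp 4 (root_lt_n (by norm_num))

/-- Fixing three base points. -/
noncomputable def stab3 : Subgroup (Equiv.Perm Pt) :=
  rho.range ⊓ MulAction.stabilizer (Equiv.Perm Pt) b0 ⊓ MulAction.stabilizer (Equiv.Perm Pt) b1 ⊓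
    MulAction.stabilizer (Equiv.Perm Pt) b2

/-- Fixing four base points. -/
noncomputable def stab4 : Subgroup (Equiv.Perm Pt) := stab3 ⊓ MulAction.stabilizer (Equiv.Perm Pt) b3

/-- Fixing five base points. -/
noncomputable def stab5 : Subgroup (Equiv.Perm Pt) := stab4 ⊓ MulAction.stabilizer (Equiv.Perm Pt) b4

theorem stab_levels : (∀ g ∈ stab3, (g b3 : ℕ) ∈ Data.maskSet fi23h fi23h_base3) ∧
    (∀ g ∈ stab4, (g b4 : ℕ) ∈ Data.maskSet fi23h fi23h_base4) ∧ Nat.card stab5 = 144 := by
  have hch := fi23h_chain_check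
  simp only [Bool.and_eq_true] at hch
  have h0 : Below fi23h S1689.table.perm fi23h_chain [] rho.range := by
    refine ⟨hch.1, fun _ h => by simp at h, fun g ⟨w, hw, e⟩ _ => e ▸ ⟨_, Fi23Trans.rho_ev w hw⟩, ?_⟩
    rw [beq_iff.mp hch.2, ← Nat.card_congr (MonoidHom.ofInjective Fi23Sylow.rho_injective).toEquiv]
    exact le_of_eq S1697.main.2
  have h1 := (levelStep (O := fi23h_base0) h0 (r := b0) rfl).2
  have h2 := (levelStep (O := fi23h_base1) h1 (r := b1) rfl).2
  have h3 := (levelStep (O := fi23h_base2) h2 (r := b2) rfl).2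
  obtain ⟨hm3, h4⟩ := levelStep (O := fi23h_base3) h3 (r := b3) rfl
  obtain ⟨hm4, h5⟩ := levelStep (O := fi23h_base4) h4 (r := b4) rfl
  exact ⟨hm3, hm4, h5.card_eq.trans rfl⟩

end Cfsg.Agent.Fi23Max
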