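import Cfsg.Agent.Lib.Fi23Max.AutFrame
import Cfsg.Agent.Lib.Fi23Max.Levels
import Cfsg.Agent.Lib.Fi23Max.Checks2

/-!
The stabiliser of the 324 transpositions is solvable (helper41).

* `frameStab`, `permHom`, `kerPart`, `frameStab_solvable`
-/

set_option autoImplicit false
set_option maxRecDepth 10000

namespace Cfsg.Agent.Fi23Max

open Cfsg.Agent.CosetEnum Cfsg.Agent.CosetEnum.Data
open Cfsg.Agent.Fi23Sylow (PTree pick getT mkTree treeOf mkTree_eq runW forTrees forTrees_eq treesOf baseRoots)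

/-- The stabiliser of the set of 324. -/
noncomputable def frameStab : Subgroup G where
  carrier := {g | ∀ a : Fin 324, ∃ b, rho g (fpP a) = fpP b}
  one_mem' := fun a => ⟨a, by simp⟩
  mul_mem' := fun {g h} hg hh a => by
    obtain ⟨b, hb⟩ := hh a
    obtain ⟨c, hc⟩ := hg b
    exact ⟨c, by rw [map_mul, Equiv.Perm.mul_apply, hb, hc]⟩
  inv_mem' := fun {g} hg a => by
    have hinj : Function.Injective fun b => (hg b).choose := fun b b' h => by
      have e1 := (hg b).choose_spec
      have e2 := (hg b').choose_spec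
      simp only at h
      rw [h] at e1
      exact fpP_injective ((rho g).injective (e1.trans e2.symm))
    obtain ⟨b, hb⟩ := (Finite.injective_iff_surjective.mp hinj) a
    refine ⟨b, ?_⟩
    have e := (hg b).choose_spec
    rw [show (hg b).choose = a from hb] at e
    rw [map_inv, Equiv.Perm.inv_eq_iff_eq, e]

/-- Effect on the 324. -/
noncomputable def permOf (g : frameStab) (a : Fin 324) : Fin 324 := (g.2 a).choose

theorem permOf_spec (g : frameStab) (a : Fin 324) : rho g (fpP a) = fpP (permOf g a) := (g.2 a).choose_spec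

theorem permOf_mul (g h : frameStab) (a : Fin 324) : permOf (g * h) a = permOf g (permOf h a) := by
  apply fpP_injective
  rw [← permOf_spec, ← permOf_spec, Subgroup.coe_mul, map_mul, Equiv.Perm.mul_apply, permOf_spec]

theorem permOf_one (a : Fin 324) : permOf 1 a = a := by
  apply fpP_injective
  rw [← permOf_spec]
  simp

/-- The homomorphism to permutations of the 324. -/
noncomputable def permHom : frameStab →* Equiv.Perm (Fin 324) where
  toFun g :=
    { toFun := permOf g
      invFun := permOf g⁻¹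
      left_inv := fun a => by rw [← permOf_mul, inv_mul_cancel, permOf_one]
      right_inv := fun a => by rw [← permOf_mul, mul_inv_cancel, permOf_one] }
  map_one' := Equiv.ext permOf_one
  map_mul' g h := Equiv.ext fun a => permOf_mul g h a

theorem part_iff (a b : Fin 324) : part a = part b ↔ a = b ∨ (¬ Com a b ∧ ∃ d, Com a d ∧ Com d b) := by
  unfold Com
  constructor
  · intro h
    rcases eq_or_ne a b with e | e
    · exact Or.inl e
    · refine Or.inr ⟨fun hc => hc.2 h, ⟨36 * blk a + 9 * ((part a + 1) % 4), by have := blk_lt a; omega⟩, ?_⟩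
      unfold part blk at *
      simp only at *
      omega
  · rintro (rfl | ⟨h1, d, hd1, hd2⟩)
    · rfl
    · by_contra h
      exact h1 ⟨hd1.1.trans hd2.1, h⟩

theorem blk_iff (a b : Fin 324) : blk a = blk b ↔ part a = part b ∨ Com a b := by
  unfold Com
  constructor
  · intro h
    rcases eq_or_ne (part a) (part b) with e | e
    exacts [Or.inl e, Or.inr ⟨h, e⟩]
  · rintro (h | h)
    · unfold part blk at *; omega
    · exact h.1

theorem permHom_mem (g : frameStab) : permHom g ∈ autFrame := by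
  set π := permHom g with hπ
  have himg : ∀ a b c, rho (transp (fpP a)) (fpP b) = fpP c → rho (transp (fpP (π a))) (fpP (π b)) = fpP (π c) := by
    intro a b c h
    show rho (transp (fpP (permOf g a))) (fpP (permOf g b)) = fpP (permOf g c)
    rw [← permOf_spec, ← permOf_spec, ← permOf_spec, transp_conj, ← h, ← Equiv.Perm.mul_apply, ← map_mul,
      ← Equiv.Perm.mul_apply, ← map_mul]
    congr 2
    group
  have key : ∀ a b, ∃ c, Ok a b c ∧ Ok (π a) (π b) (π c) := by
    intro a b
    obtain ⟨c, hc, hok⟩ := product_ok a b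
    obtain ⟨c', hc', hok'⟩ := product_ok (π a) (π b)
    have : c' = π c := fpP_injective (hc'.symm.trans (himg a b c hc))
    exact ⟨c, hok, this ▸ hok'⟩
  have hcom : ∀ a b, Com (π a) (π b) ↔ Com a b := by
    intro a b
    rcases eq_or_ne a b with rfl | hne
    · simp [Com]
    · obtain ⟨c, hok, hok'⟩ := key a b
      have h1 := hok.1
      have h2 := hok'.1
      rw [π.apply_eq_iff_eq, π.apply_eq_iff_eq, h1] at h2
      simp only [or_iff_right hne] at h2
      exact h2.symm
  have hpart : ∀ a b, part (π a) = part (π b) ↔ part a = part b := by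
    intro a b
    rw [part_iff, part_iff, π.apply_eq_iff_eq, hcom]
    refine or_congr_right (and_congr_right fun _ => ⟨?_, ?_⟩)
    · rintro ⟨d, h1, h2⟩
      refine ⟨π.symm d, ?_, ?_⟩
      · rw [← hcom, π.apply_symm_apply]; exact h1
      · rw [← hcom, π.apply_symm_apply]; exact h2
    · rintro ⟨d, h1, h2⟩
      exact ⟨π d, (hcom _ _).mpr h1, (hcom _ _).mpr h2⟩
  have hblk : ∀ a b, blk (π a) = blk (π b) ↔ blk a = blk b := fun a b => by
    rw [blk_iff, blk_iff, hpart, hcom]
  refine ⟨hblk, hpart, fun a b c hne hc => ?_, fun a b c he hcp hcq => ?_⟩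
  · obtain ⟨c0, hok, hok'⟩ := key a b
    rw [(hblk c c0).mpr (hc.trans (hok.2.1 hne).symm)]
    exact hok'.2.1 fun e => hne ((hblk a b).mp e)
  · obtain ⟨c0, hok, hok'⟩ := key a b
    obtain ⟨q1, q2⟩ := hok.2.2 he
    have : c = c0 := Fin.ext (by unfold part pos at *; omega)
    rw [this]
    exact (hok'.2.2 ((hpart a b).mpr he)).2

theorem fixes_fp (g : permHom.ker) (a : Fin 324) : rho ((g : frameStab) : G) (fpP a) = fpP a := by
  rw [permOf_spec]
  exact congrArg fpP (Equiv.congr_fun (MonoidHom.mem_ker.mp g.2) a)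

theorem fIdx_ne_zero {i : ℕ} (hi : i < 31671) (h : lane 16 fIdx i ≠ 0) : ∃ a : Fin 324, fpP a = pnt i := by
  refine exists_fpP_of_lab ((orb_spec (pnt i)).2.1.mpr ?_)
  rwa [pnt_val hi]

theorem ker_stab3 (g : permHom.ker) : rho ((g : frameStab) : G) ∈ stab3 := by
  have h := idx_check
  simp only [idxOK, mkTree_eq, Bool.and_eq_true, List.all_eq_true] at h
  have hpre : ∀ i < 3, ∀ x : Pt, (x : ℕ) = i → rho ((g : frameStab) : G) x = x := by
    intro i hi x hx
    obtain ⟨h1, h2⟩ := h.2.2.2 i (List.mem_range.mpr hi)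
    rw [Nat.blt_eq] at h1
    have : fpP ⟨_, h1⟩ = x := Fin.ext (by rw [fpP_val, hx]; exact beq_iff.mp h2)
    rw [← this]
    exact fixes_fp g _
  exact ⟨⟨⟨⟨_, rfl⟩, hpre 0 (by norm_num) b0 rfl⟩, hpre 1 (by norm_num) b1 rfl⟩, hpre 2 (by norm_num) b2 rfl⟩

theorem sameSep_iff (g : permHom.ker) {j r : ℕ} (x : Pt) {ks : List ℕ} (hks : ks = sepIdx.getD j [])
    (hk : ∀ k ∈ ks, k < named.length ∧ ∃ a, fpP a = pnt (nPt k)) :
    sameSep (treesOf 10) ks r (rho ((g : frameStab) : G) x) = sameSep (treesOf 10) ks r x := by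
  unfold sameSep
  rw [Bool.eq_iff_iff, List.all_eq_true, List.all_eq_true]
  have e : ∀ k ∈ ks, Nat.beq (runW (treesOf 10) (nWord k) (rho ((g : frameStab) : G) x))
      (rho ((g : frameStab) : G) x) = Nat.beq (runW (treesOf 10) (nWord k) x) x := by
    intro k hk'
    obtain ⟨hlt, a, ha⟩ := hk k hk'
    obtain ⟨hw, -, hev⟩ := named_spec hlt
    rw [← val_run _ hw, ← val_run _ hw, hev, ← ha, Bool.eq_iff_iff, beq_iff, beq_iff]
    have hc : transp (fpP a) * ((g : frameStab) : G) = ((g : frameStab) : G) * transp (fpP a) :=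
      (transp_fix.mp (fixes_fp g a)).symm
    rw [← Fin.ext_iff, ← Fin.ext_iff, ← Equiv.Perm.mul_apply, ← map_mul, hc, map_mul, Equiv.Perm.mul_apply]
    exact (rho ((g : frameStab) : G)).injective.eq_iff
  constructor
  · intro h k hk'
    rw [← e k hk']
    exact h k hk'
  · intro h k hk'
    rw [e k hk']
    exact h k hk'

theorem cand_spec {M r j : ℕ} (h : candOK M r j = true) :
    (∀ k ∈ sepIdx.getD j [], k < named.length ∧ ∃ a, fpP a = pnt (nPt k)) ∧
    (∀ y ∈ cand.getD j [], y < 31671 ∧ lane 16 M y = 1 ∧ sameSep (treesOf 10) (sepIdx.getD j []) r y = true) ∧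
    ∀ y < 31671, lane 16 M y = 1 → sameSep (treesOf 10) (sepIdx.getD j []) r y = true → y ∈ cand.getD j [] := by
  simp only [candOK, forTrees_eq, mkTree_eq, Bool.and_eq_true, List.all_eq_true, Nat.blt_eq] at h
  obtain ⟨h1, h2, h3⟩ := h
  refine ⟨fun k hk => ?_, fun y hy => ?_, fun y hy hm hs => ?_⟩
  · obtain ⟨hlt, hne⟩ := h1 k hk
    obtain ⟨-, hp, -⟩ := named_spec hlt
    refine ⟨hlt, fIdx_ne_zero hp ?_⟩
    rw [getT_lane (by omega), Bool.not_eq_true', Bool.eq_false_iff, Ne, beq_iff] at hne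
    exact hne
  · obtain ⟨hlt, hm, hs⟩ := h2 y hy
    rw [getT_lane (by omega), beq_iff] at hm
    exact ⟨hlt, hm, hs⟩
  · have := h3 y (List.mem_range.mpr hy)
    rw [getT_lane (by omega), hm, hs] at this
    simpa using this

theorem ker_cand3 (g : permHom.ker) (x : Pt) (hx : (x : ℕ) ∈ cand.getD 0 []) :
    (rho ((g : frameStab) : G) x : ℕ) ∈ cand.getD 0 [] := by
  obtain ⟨hk, hq, hall⟩ := cand_spec cand3_check
  obtain ⟨-, hm, hs⟩ := hq _ hx
  refine hall _ (pt_lt _) ?_ (by rw [sameSep_iff g x rfl hk]; exact hs)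
  have hch := fi23h_chain_check
  simp only [Bool.and_eq_true] at hch
  obtain ⟨q, hq', hqx⟩ : ∃ q ∈ stab3, (q b3 : ℕ) = x := by
    have h0 := hch.1
    change (fi23h.reachOK fi23h_base0 && (_ && (fi23h.reachOK fi23h_base1 && (_ && (fi23h.reachOK fi23h_base2 &&
      (_ && (fi23h.reachOK fi23h_base3 && (((fi23h_base3.words.all fun w => ([2, 1, 0] : List ℕ).all fun b =>
        Nat.beq (lane fi23h.B (fi23h.trace w) b) b)) && _)))))))) = true at h0
    simp only [Bool.and_eq_true, List.all_eq_true] at h0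
    obtain ⟨-, -, hind⟩ := orbit_reach S1689.table.perm h0.2.2.2.2.2.2.1
    refine hind (P := fun i => ∃ q ∈ stab3, (q b3 : ℕ) = i) ⟨1, one_mem _, rfl⟩ ?_ _ ⟨x.2, hm⟩
    rintro w hw i hi ⟨q, hq, rfl⟩
    have hwk : ∀ a ∈ w, a < fi23h.k := by
      intro a ha
      have hall : ((fi23h_base3.words).all fun w => w.all fun a => Nat.blt a 10) = true := by decide +kernel
      simp only [List.all_eq_true, Nat.blt_eq] at hall
      rw [k_eq]
      exact hall w hw a ha
    have hfix : ∀ b ∈ ([2, 1, 0] : List ℕ), ∀ p : Pt, (p : ℕ) = b → rho (ev fi23Setup.el w) p = p := by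
      intro b hb p hp
      refine Fin.ext ?_
      rw [val_ev w hwk, ← Fi23Sylow.lane_trace hwk p, hp]
      exact beq_iff.mp (h0.2.2.2.2.2.2.2.1 w hw b hb)
    refine ⟨rho (ev fi23Setup.el w) * q, mul_mem ⟨⟨⟨⟨_, rfl⟩, hfix 0 (by simp) b0 rfl⟩, hfix 1 (by simp) b1 rfl⟩,
      hfix 2 (by simp) b2 rfl⟩ hq, ?_⟩
    rw [Equiv.Perm.mul_apply, val_ev w hwk]
  have := (stab_levels.1 _ (mul_mem (ker_stab3 g) hq')).2
  rw [Equiv.Perm.mul_apply, show q b3 = x from Fin.ext hqx] at this
  exact this

/-- The kernel fixes the candidates as a set. -/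
theorem ker_cand3_iff (g : permHom.ker) (x : Pt) :
    (x : ℕ) ∈ cand.getD 0 [] ↔ (rho ((g : frameStab) : G) x : ℕ) ∈ cand.getD 0 [] := by
  refine ⟨ker_cand3 g x, fun h => ?_⟩
  have h2 := ker_cand3 g⁻¹ _ h
  rw [InvMemClass.coe_inv, InvMemClass.coe_inv, map_inv, Equiv.Perm.inv_eq_iff_eq.mpr rfl] at h2
  exact h2

/-- The action of the kernel on the three candidates. -/
noncomputable def candHom : permHom.ker →* Equiv.Perm {x : Pt // (x : ℕ) ∈ cand.getD 0 []} where
  toFun g := (rho ((g : frameStab) : G)).subtypePerm (fun x => (ker_cand3_iff g x).symm)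
  map_one' := Equiv.ext fun x => Subtype.ext (by simp)
  map_mul' g h := Equiv.ext fun x => Subtype.ext (by
    show rho (((g * h : permHom.ker) : frameStab) : G) x = rho ((g : frameStab) : G) (rho ((h : frameStab) : G) x)
    rw [Subgroup.coe_mul, Subgroup.coe_mul, map_mul, Equiv.Perm.mul_apply])

theorem frameStab_solvable : Group.IsSolvable frameStab := by
  let f : frameStab →* autFrame := permHom.codRestrict autFrame permHom_mem
  have hker : f.ker = permHom.ker := by
    ext x
    simp only [MonoidHom.mem_ker, f, Subtype.ext_iff]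
    rfl
  refine isSolvable_of_hom f ?_ inferInstance
  rw [hker]
  have hc3 : Nat.card {x : Pt // (x : ℕ) ∈ cand.getD 0 []} = 3 := by
    have hs : ({x : Pt | (x : ℕ) ∈ cand.getD 0 []} : Set Pt) = {pnt 3, pnt 255, pnt 540} := by
      ext x
      simp only [Set.mem_setOf_eq, Set.mem_insert_iff, Set.mem_singleton_iff, Fin.ext_iff,
        pnt_val (show (3 : ℕ) < 31671 by norm_num), pnt_val (show (255 : ℕ) < 31671 by norm_num),
        pnt_val (show (540 : ℕ) < 31671 by norm_num)]
      simp [cand]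
    show Nat.card ({x : Pt | (x : ℕ) ∈ cand.getD 0 []} : Set Pt) = 3
    rw [hs, Nat.card_coe_set_eq, Set.ncard_eq_three]
    refine ⟨_, _, _, ?_, ?_, ?_, rfl⟩ <;>
      simp [Fin.ext_iff, pnt_val (show (3 : ℕ) < 31671 by norm_num), pnt_val (show (255 : ℕ) < 31671 by norm_num),
        pnt_val (show (540 : ℕ) < 31671 by norm_num)]
  refine isSolvable_of_hom candHom ?_ (solvable_of_card_two_three 1 1 (by
    rw [Nat.card_perm, hc3]; rfl))
  have h5 : Group.IsSolvable stab5 := solvable_of_card_two_three 4 2 (by rw [stab_levels.2.2]; norm_num)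
  have hmem : ∀ g : candHom.ker, rho (((g : permHom.ker) : frameStab) : G) ∈ stab5 := by
    intro g
    set k : permHom.ker := (g : permHom.ker)
    have hb3 : (b3 : ℕ) ∈ cand.getD 0 [] := by show (3 : ℕ) ∈ _; simp [cand]
    have h3 : rho ((k : frameStab) : G) b3 = b3 :=
      congrArg Subtype.val (Equiv.congr_fun (MonoidHom.mem_ker.mp g.2) ⟨b3, hb3⟩)
    have h4m : rho ((k : frameStab) : G) ∈ stab4 := ⟨ker_stab3 k, h3⟩
    obtain ⟨hk, hq, hall⟩ := cand_spec cand4_check
    have h4 : (4 : ℕ) ∈ cand.getD 1 [] := by simp [cand]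
    obtain ⟨-, -, hs⟩ := hq 4 h4
    have := hall _ (pt_lt _) (stab_levels.2.1 _ h4m).2 (by rw [sameSep_iff k b4 rfl hk]; exact hs)
    refine ⟨h4m, Fin.ext ?_⟩
    simpa [cand, b4, bp] using this
  let e : candHom.ker →* stab5 :=
    ((rho.comp frameStab.subtype).comp (permHom.ker.subtype.comp candHom.ker.subtype)).codRestrict stab5 hmem
  refine Group.isSolvable_of_isSolvable_injective (f := e) ?_
  intro u v h
  exact Subtype.ext (Subtype.ext (Subtype.ext (Fi23Sylow.rho_injective (congrArg Subtype.val h))))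

end Cfsg.Agent.Fi23Max
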