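import Cfsg.Agent.Lib.Fi23Max.Frame

/-!
A solvable maximal subgroup of derived length ten in Fi23 (helper41).

* `isCoatom_frameStab`, `derived_ne`, `exists_example`
-/

set_option autoImplicit false
set_option maxRecDepth 10000

namespace Cfsg.Agent.Fi23Max

open Cfsg.Agent.CosetEnum Cfsg.Agent.CosetEnum.Data
open scoped commutatorElement
open Cfsg.Agent.Fi23Sylow (PTree pick getT mkTree treeOf mkTree_eq runW runW_eq forTrees forTrees_eq treesOf baseRoots)

theorem transp_fp_mem (a : Fin 324) : transp (fpP a) ∈ frameStab := fun b => by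
  obtain ⟨c, hc, -⟩ := product_ok a b
  exact ⟨c, hc⟩

theorem sT_mem {s : ℕ} (hs : s < 5) : sT s ∈ frameStab := fun b => ⟨_, sT_fpP hs b⟩

theorem move_spec {m : ℕ} (hm : m < 7) :
    (∀ a ∈ (wordsH.getD 0 []).getD m [], a < fi23h.k) ∧ ev fi23Setup.el ((wordsH.getD 0 []).getD m []) ∈ frameStab := by
  have h : moveOK m = true := by
    interval_cases m
    exacts [move0, move1, move2, move3, move4, move5, move6]
  simp only [moveOK, forTrees_eq, mkTree_eq, force_eq, Bool.and_eq_true, List.all_eq_true, Nat.blt_eq] at h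
  obtain ⟨hw, hk⟩ := h
  have hw' : ∀ a ∈ (wordsH.getD 0 []).getD m [], a < fi23h.k := fun a ha => by rw [k_eq]; exact hw a ha
  refine ⟨hw', fun b => ?_⟩
  have h1 := hk b (List.mem_range.mpr b.2)
  have hv := val_run _ hw' (fpP b)
  rw [fpP_val] at hv
  rw [← hv, getT_lane (by have := pt_lt (rho (ev fi23Setup.el ((wordsH.getD 0 []).getD m [])) (fpP b)); omega),
    Bool.not_eq_true', Bool.eq_false_iff, Ne, beq_iff] at h1
  obtain ⟨a, ha⟩ := fIdx_ne_zero (pt_lt _) h1
  exact ⟨a, by rw [ha, pnt_self]⟩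

theorem idx_spec : (∀ k ∈ gIdx, k < named.length ∧ ∃ a, fpP a = pnt (nPt k)) ∧
    (∀ k ∈ rootIdx, k < named.length) ∧ ∀ k ∈ letIdx, k < named.length := by
  have h := idx_check
  simp only [idxOK, mkTree_eq, Bool.and_eq_true, List.all_eq_true, Nat.blt_eq] at h
  refine ⟨fun k hk => ?_, h.2.1, h.2.2.1⟩
  obtain ⟨hlt, hne⟩ := h.1 k hk
  obtain ⟨-, hp, -⟩ := named_spec hlt
  refine ⟨hlt, fIdx_ne_zero hp ?_⟩
  rw [getT_lane (by omega), Bool.not_eq_true', Bool.eq_false_iff, Ne, beq_iff] at hne
  exact hne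

theorem getD_mem {α : Type} {l : List α} {i : ℕ} (h : i < l.length) (d : α) : l.getD i d ∈ l := by
  rw [List.getD_eq_getElem _ _ h]
  exact List.getElem_mem h

theorem root_mem_top {j : ℕ} (hj : j < 5) (K : Subgroup G) (hK : frameStab ≤ K)
    (hr : transp (pnt (root (j + 1))) ∈ K) : K = ⊤ := by
  obtain ⟨hg, hroot, hlet⟩ := idx_spec
  have hp := path_check
  simp only [forTrees_eq, List.all_eq_true, List.mem_range] at hp
  have hp := hp j hj
  simp only [pathOK, List.all_eq_true, List.mem_range, Bool.and_eq_true, Nat.blt_eq, beq_iff, beq_iff_eq] at hp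
  have hr' : rootIdx.getD (j + 1) 0 < named.length :=
    hroot _ (getD_mem (show j + 1 < rootIdx.length by simp [rootIdx]; omega) 0)
  have step : ∀ i < gIdx.length + 1 + (wordsH.getD 0 []).length,
      (∀ a ∈ stepWord j i, a < fi23h.k) ∧ ev fi23Setup.el (stepWord j i) ∈ K := by
    intro i hi
    unfold stepWord
    by_cases h1 : i < gIdx.length
    · rw [if_pos (Nat.blt_eq.mpr h1)]
      obtain ⟨hlt, a, ha⟩ := hg _ (getD_mem h1 0)
      obtain ⟨hw, -, hev⟩ := named_spec hlt
      exact ⟨hw, by rw [hev, ← ha]; exact hK (transp_fp_mem a)⟩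
    · rw [if_neg (fun e => h1 (Nat.blt_eq.mp e))]
      by_cases h2 : i = gIdx.length
      · rw [if_pos (beq_iff.mpr h2)]
        obtain ⟨hw, -, hev⟩ := named_spec hr'
        exact ⟨hw, by rw [hev]; exact hr⟩
      · rw [if_neg (fun e => h2 (beq_iff.mp e))]
        obtain ⟨hw, hev⟩ := move_spec (m := i - gIdx.length - 1) (by
          have : (wordsH.getD 0 []).length = 7 := by
            have h := level_check
            simp only [forTrees_eq, Bool.and_eq_true, beq_iff] at h
            exact h.2.1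
          omega)
        exact ⟨hw, hK hev⟩
  have run : ∀ p : List ℕ, (∀ i ∈ p, i < gIdx.length + 1 + (wordsH.getD 0 []).length) → ∀ x : Pt, transp x ∈ K →
      ∃ y : Pt, (y : ℕ) = runPath (treesOf 10) j p x ∧ transp y ∈ K := by
    intro p
    induction p with
    | nil => intro _ x hx; exact ⟨x, rfl, hx⟩
    | cons i p ih =>
      intro hp x hx
      obtain ⟨hw, hk⟩ := step i (hp i List.mem_cons_self)
      obtain ⟨y, hy, hyK⟩ := ih (fun l hl => hp l (List.mem_cons_of_mem _ hl)) (rho (ev fi23Setup.el (stepWord j i)) x)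
        (by rw [transp_conj]; exact mul_mem (mul_mem hk hx) (inv_mem hk))
      refine ⟨y, ?_, hyK⟩
      rw [hy, val_run _ hw]
      show _ = force (runW (treesOf 10) (stepWord j i) x) fun z => runPath (treesOf 10) j p z
      rw [force_eq]
  have hlet' : ∀ a < 10, fi23Setup.el a ∈ K := by
    intro a ha
    obtain ⟨hbound, hend, hword⟩ := hp a ha
    have hk : letIdx.getD a 0 < named.length := hlet _ (getD_mem (show a < letIdx.length by simp [letIdx]; omega) 0)
    obtain ⟨-, hlt, hev⟩ := named_spec hk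
    obtain ⟨y, hy, hyK⟩ := run _ hbound (pnt (root (j + 1))) hr
    have hlt' : root (j + 1) < 31671 := (named_spec hr').2.1
    rw [pnt_val hlt'] at hy
    have hy' : y = pnt (nPt (letIdx.getD a 0)) :=
      Fin.ext (by rw [hy, pnt_val hlt]; exact hend)
    rw [hy', ← hev, hword] at hyK
    simpa [ev] using hyK
  rw [eq_top_iff, ← Setup.closure_el S1689.table.gens S1689.table.letters, Subgroup.closure_le]
  rintro _ ⟨a, rfl⟩
  exact hlet' a (by have := a.2; simp only [k_eq] at this; exact this)

theorem exists_outside : ∃ a : Fin 10, ((List.range 324).any fun k =>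
    Nat.beq (lane 16 fIdx (fi23h.tw [(a : ℕ)] (fp k))) 0) = true := ⟨0, by decide +kernel⟩

theorem frameStab_ne_top : frameStab ≠ ⊤ := by
  intro h
  obtain ⟨a, ha⟩ := exists_outside
  simp only [List.any_eq_true, beq_iff] at ha
  obtain ⟨k, hk, h0⟩ := ha
  rw [List.mem_range] at hk
  obtain ⟨b, hb⟩ := (h.symm ▸ Subgroup.mem_top (ev fi23Setup.el [(a : ℕ)]) :
    ev fi23Setup.el [(a : ℕ)] ∈ frameStab) ⟨k, hk⟩
  have e := congrArg Fin.val hb
  rw [val_ev [(a : ℕ)] (by simp [k_eq]), fpP_val, fpP_val] at e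
  rw [show fp k = fp (⟨k, hk⟩ : Fin 324) from rfl, e, (fp_spec b.2).2] at h0
  omega

theorem isCoatom_frameStab : IsCoatom frameStab := by
  refine ⟨frameStab_ne_top, fun K hK => ?_⟩
  obtain ⟨g, hgK, hg⟩ := SetLike.exists_of_lt hK
  obtain ⟨a, ha⟩ : ∃ a : Fin 324, ∀ b, rho g (fpP a) ≠ fpP b := by
    by_contra h
    push Not at h
    exact hg h
  have hy : transp (rho g (fpP a)) ∈ K := by
    rw [transp_conj]
    exact mul_mem (mul_mem hgK (hK.le (transp_fp_mem a))) (inv_mem hgK)
  have hlab : lab (rho g (fpP a)) ≠ 0 := fun h0 => by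
    obtain ⟨b, hb⟩ := exists_fpP_of_lab h0
    exact ha b hb.symm
  have hstep : ∀ s < 5, ∀ x : Pt, (transp x ∈ K → False) → (transp (rho (sT s) x) ∈ K → False) :=
    fun s hs x hx h => hx (by
      have := mul_mem (mul_mem (hK.le (sT_mem hs)) h) (inv_mem (hK.le (sT_mem hs)))
      rwa [← transp_conj, sT_involutive] at this)
  obtain ⟨j, hj⟩ := Nat.exists_eq_succ_of_ne_zero hlab
  have hj6 : j < 5 := by have := (orb_spec (rho g (fpP a))).1; omega
  by_contra htop
  exact orbit_induct (P := fun x => transp x ∈ K → False) hstep _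
    (fun hr => htop (root_mem_top hj6 K hK.le hr)) (rho g (fpP a)) hj hy

theorem catWords_ev (S : Subgroup G) (ws : List (List ℕ)) (hws : ∀ w ∈ ws, (∀ a ∈ w, a < fi23h.k) ∧ ev fi23Setup.el w ∈ S) :
    ∀ ix : List ℕ, (∀ i ∈ ix, i < ws.length) →
      (∀ a ∈ catWords ws ix, a < fi23h.k) ∧ ev fi23Setup.el (catWords ws ix) ∈ S
  | [], _ => ⟨by simp [catWords], by simp [catWords, ev]⟩
  | i :: ix, h => by
    obtain ⟨h1, h2⟩ := hws _ (getD_mem (h i List.mem_cons_self) [])
    obtain ⟨h3, h4⟩ := catWords_ev S ws hws ix fun l hl => h l (List.mem_cons_of_mem _ hl)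
    have e : catWords ws (i :: ix) = ws.getD i [] ++ catWords ws ix := by simp [catWords]
    rw [e]
    refine ⟨fun a ha => (List.mem_append.mp ha).elim (h1 a) (h3 a), ?_⟩
    rw [ev_append]
    exact mul_mem h4 h2

theorem derived_level : ∀ j ≤ 9, ∀ w ∈ wordsH.getD j [],
    (∀ a ∈ w, a < fi23h.k) ∧ ev fi23Setup.el w ∈ (derivedSeries frameStab j).map frameStab.subtype := by
  intro j
  have hl := level_check
  simp only [forTrees_eq, Bool.and_eq_true, List.all_eq_true, beq_iff, List.mem_range] at hl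
  induction j with
  | zero =>
    intro _ w hw
    obtain ⟨m, hm, rfl⟩ := List.getElem_of_mem hw
    rw [derivedSeries_zero, ← MonoidHom.range_eq_map, Subgroup.range_subtype, ← List.getD_eq_getElem _ [] hm]
    exact move_spec (by have := hl.2.1; omega)
  | succ j ih =>
    intro hj w hw
    have hL := hl.1 j (by omega)
    simp only [levelOK, Bool.and_eq_true, beq_iff, List.all_eq_true, force_eq, Nat.blt_eq] at hL
    obtain ⟨hlen, hall⟩ := hL
    obtain ⟨m, hm, rfl⟩ := List.getElem_of_mem hw
    have hm' : m < (levels.getD j []).length := by omega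
    obtain ⟨hlt, h1, h2, hb⟩ := hall ((wordsH.getD (j + 1) [])[m], (levels.getD j [])[m])
      (List.mem_of_getElem (i := m) (h := by rw [List.length_zip]; omega) (by simp))
    have hw' : ∀ a ∈ (wordsH.getD (j + 1) [])[m], a < fi23h.k := fun a ha => by rw [k_eq]; exact hlt a ha
    obtain ⟨hA, hAm⟩ := catWords_ev _ _ (ih (by omega)) _ h1
    obtain ⟨hB, hBm⟩ := catWords_ev _ _ (ih (by omega)) _ h2
    refine ⟨hw', ?_⟩
    set A := catWords (wordsH.getD j []) ((levels.getD j [])[m]).1
    set B := catWords (wordsH.getD j []) ((levels.getD j [])[m]).2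
    have heq : ev fi23Setup.el (wordsH.getD (j + 1) [])[m] =
        ev fi23Setup.el (A.reverse ++ B.reverse ++ A ++ B) := by
      refine Fi23Sylow.ext_base fun b hb' x hx => Fin.ext ?_
      show (rho (ev fi23Setup.el (wordsH.getD (j + 1) [])[m]) x : ℕ) = (rho (ev fi23Setup.el _) x : ℕ)
      rw [val_run _ hw', val_run, hx]
      · exact hb b hb'
      · intro a ha
        simp only [List.mem_append, List.mem_reverse] at ha
        rcases ha with ((ha | ha) | ha) | ha
        exacts [hA a ha, hB a ha, hA a ha, hB a ha]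
    rw [heq, ev_append, ev_append, ev_append, Fi23Trans.ev_inv A hA, Fi23Trans.ev_inv B hB, derivedSeries_succ,
      Subgroup.map_commutator, show ∀ p q : G, q * (p * (q⁻¹ * p⁻¹)) = ⁅q, p⁆ from fun p q => by
        rw [commutatorElement_def]; group]
    exact Subgroup.commutator_mem_commutator hBm hAm

theorem derived_ne : derivedSeries frameStab 10 ≠ derivedSeries frameStab 9 := by
  intro h
  have hl := level_check
  simp only [forTrees_eq, Bool.and_eq_true, beq_iff, List.any_eq_true, Bool.not_eq_true'] at hl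
  obtain ⟨-, -, hlen, b, hb, hne⟩ := hl
  obtain ⟨hw, hmem⟩ := derived_level 9 le_rfl _ (getD_mem (i := 0) (by omega) [])
  obtain ⟨x, hx, hxe⟩ := Subgroup.mem_map.mp hmem
  have hx1 : x ≠ 1 := by
    intro e
    rw [e, map_one] at hxe
    rw [← Nat.mod_eq_of_lt (show b < fi23h.n by rw [n_eq]; fin_cases hb <;> norm_num)] at hne
    have hv := val_run _ hw (pnt b)
    rw [← hxe, map_one, Equiv.Perm.one_apply] at hv
    show False
    rw [show (pnt b : ℕ) = b % fi23h.n from rfl] at hv
    rw [← hv, Bool.eq_false_iff, Ne, beq_iff] at hne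
    exact hne rfl
  have hall : ∀ n, x ∈ derivedSeries frameStab n := by
    have hst : ∀ n, 9 ≤ n → derivedSeries frameStab n = derivedSeries frameStab 9 := by
      intro n hn
      induction n, hn using Nat.le_induction with
      | base => rfl
      | succ n _ ih => rw [derivedSeries_succ, ih, ← derivedSeries_succ, h]
    intro n
    rcases le_or_gt 9 n with hn | hn
    · rw [hst n hn]; exact hx
    · exact derivedSeries_antitone frameStab (le_of_lt hn) hx
  exact not_isSolvable_of_mem_derivedSeries hx1 hall frameStab_solvable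

theorem not_comm : ¬ IsMulCommutative (⊤ : Subgroup G) := by
  intro hc
  apply derived_ne
  have hbot : derivedSeries frameStab 1 = ⊥ := by
    rw [derivedSeries_one, commutator_def, Subgroup.commutator_eq_bot_iff_le_centralizer]
    intro x _ y _
    have h : (y : G) * (x : G) = (x : G) * (y : G) :=
      congrArg Subtype.val (hc.is_comm.comm ⟨(y : G), trivial⟩ ⟨(x : G), trivial⟩)
    exact Subtype.ext h
  have h0 : ∀ n, 1 ≤ n → derivedSeries frameStab n = ⊥ := fun n hn =>
    le_bot_iff.mp (le_of_le_of_eq (derivedSeries_antitone frameStab hn) hbot)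
  rw [h0 10 (by norm_num), h0 9 (by norm_num)]

theorem exists_example : ∃ (X : Type) (_ : Group X) (_ : Finite X) (S H : Subgroup X), S.Normal ∧ IsSimpleGroup S ∧
    ¬ IsMulCommutative S ∧ Subgroup.centralizer (S : Set X) = ⊥ ∧ IsCoatom H ∧
      derivedSeries H 10 ≠ derivedSeries H 9 := by
  have hs : IsSimpleGroup G := S1697.main.1
  refine ⟨G, inferInstance, inferInstance, ⊤, frameStab, inferInstance, ?_, not_comm, ?_, isCoatom_frameStab,
    derived_ne⟩
  · exact (Subgroup.topEquiv (G := G)).isSimpleGroup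
  · rw [Subgroup.coe_top, Subgroup.centralizer_univ]
    refine ((inferInstance : (Subgroup.center G).Normal).eq_bot_or_eq_top).resolve_right fun h => not_comm ?_
    exact ⟨⟨fun x y => Subtype.ext (Subgroup.mem_center_iff.mp (show (y : G) ∈ Subgroup.center G by rw [h]; trivial) x)⟩⟩

end Cfsg.Agent.Fi23Max
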