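import Cfsg.Agent.Lib.Fi23Max.Checks

/-!
The five transpositions on all points and on the 324 (helper41).

* `pnt`, `sT`, `nT_eq`, `val_sT`, `fpP`, `orbit_induct`, `lab_eq_zero_iff`
-/

set_option autoImplicit false
set_option maxRecDepth 10000

namespace Cfsg.Agent.Fi23Max

open Cfsg.Agent.CosetEnum Cfsg.Agent.CosetEnum.Data
open Cfsg.Agent.Fi23Sylow (PTree pick getT mkTree treeOf mkTree_eq getT_treeOf runW forTrees forTrees_eq treesOf
  baseRoots lane_trace)

/-- A natural number as a point. -/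
noncomputable def pnt (i : ℕ) : Pt := ⟨i % fi23h.n, Nat.mod_lt _ (by rw [n_eq]; norm_num)⟩

theorem pnt_val {i : ℕ} (h : i < 31671) : (pnt i : ℕ) = i := Nat.mod_eq_of_lt (by rw [n_eq]; exact h)

theorem pnt_self (x : Pt) : pnt x = x := Fin.ext (Nat.mod_eq_of_lt x.2)

theorem pt_lt (x : Pt) : (x : ℕ) < 31671 := by
  have h := x.2
  rw [← n_eq]
  exact h

theorem getT_lane {V i : ℕ} (hi : i < 32768) : getT (treeOf 4 V 0) i = lane 16 V i := by
  rw [show treeOf 4 V 0 = treeOf 4 V (2048 * 0) from rfl, getT_treeOf 4 V 0 i (by omega) (by omega),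
    Nat.mul_zero, Nat.sub_zero]

theorem named_spec {k : ℕ} (hk : k < named.length) : (∀ a ∈ nWord k, a < fi23h.k) ∧ nPt k < 31671 ∧
    ev fi23Setup.el (nWord k) = transp (pnt (nPt k)) := by
  have h := named_check
  rw [forTrees_eq] at h
  have h1 := List.all_eq_true.mp h k (List.mem_range.mpr hk)
  simp only [namedOK, Bool.and_eq_true, List.all_eq_true, Nat.blt_eq, beq_iff] at h1
  obtain ⟨hw, hu, hlt, hpt, hb⟩ := h1
  have hw' : ∀ a ∈ nWord k, a < fi23h.k := fun a ha => by rw [k_eq]; exact hw a ha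
  have hu' : ∀ a ∈ nPath k, a < fi23h.k := fun a ha => by rw [k_eq]; exact hu a ha
  refine ⟨hw', hlt, ev_eq_transp hw' hu' ?_ hb⟩
  rw [pnt_val hlt, ← hpt]
  exact (Fi23Sylow.runW_eq _ hu' 0 (by rw [n_eq]; norm_num)).symm

theorem sIdx_lt {s : ℕ} (hs : s < 5) : sIdx.getD s 0 < named.length := by
  interval_cases s <;> decide

/-- One of the five. -/
noncomputable def sT (s : ℕ) : G := transp (pnt (nPt (sIdx.getD s 0)))

theorem sT_eq {s : ℕ} (hs : s < 5) : ev fi23Setup.el (sWord s) = sT s := (named_spec (sIdx_lt hs)).2.2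

theorem sT_involutive (s : ℕ) (x : Pt) : rho (sT s) (rho (sT s) x) = x := rho_transp_involutive _ x

theorem val_sT {s : ℕ} (hs : s < 5) (x : Pt) : (rho (sT s) x : ℕ) = lane 16 (vec s) x := by
  have hv : fi23h.trace (sWord s) = vec s := by
    interval_cases s
    exacts [beq_iff.mp vec0_eq, beq_iff.mp vec1_eq, beq_iff.mp vec2_eq, beq_iff.mp vec3_eq, beq_iff.mp vec4_eq]
  rw [← sT_eq hs, val_ev (sWord s) (named_spec (sIdx_lt hs)).1, ← hv,
    lane_trace (w := sWord s) (named_spec (sIdx_lt hs)).1 x]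

theorem fp_spec {k : ℕ} (hk : k < 324) : fp k < 31671 ∧ lane 16 fIdx (fp k) = k + 1 := by
  have h := fp_check
  simp only [fpOK, mkTree_eq, List.all_eq_true, Bool.and_eq_true, Nat.blt_eq, beq_iff] at h
  obtain ⟨h1, h2⟩ := h k (List.mem_range.mpr hk)
  exact ⟨h1, by rw [← h2, getT_lane (by omega)]⟩

/-- One of the 324. -/
noncomputable def fpP (a : Fin 324) : Pt := pnt (fp a)

theorem fpP_val (a : Fin 324) : (fpP a : ℕ) = fp a := pnt_val (fp_spec a.2).1

theorem fpP_injective : Function.Injective fpP := by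
  intro a b h
  have h' : fp a = fp b := by rw [← fpP_val, ← fpP_val, h]
  have ha := (fp_spec a.2).2
  rw [h', (fp_spec b.2).2] at ha
  exact Fin.ext (by omega)

theorem tab_spec {s k : ℕ} (hs : s < 5) (hk : k < 324) :
    tab s k < 324 ∧ lane 16 (vec s) (fp k) = fp (tab s k) ∧ tab s (tab s k) = k := by
  have h := List.all_eq_true.mp tab_check s (List.mem_range.mpr hs)
  simp only [tabOK, mkTree_eq, List.all_eq_true, Bool.and_eq_true, Nat.blt_eq, beq_iff] at h
  obtain ⟨h1, h2, h3⟩ := h k (List.mem_range.mpr hk)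
  exact ⟨h1, by rw [← h2, getT_lane (by have := (fp_spec hk).1; omega)], h3⟩

/-- Effect of one of the five on the 324. -/
def tabF (s : ℕ) (a : Fin 324) : Fin 324 := ⟨tab s a % 324, Nat.mod_lt _ (by norm_num)⟩

theorem tabF_val {s : ℕ} (hs : s < 5) (a : Fin 324) : (tabF s a : ℕ) = tab s a :=
  Nat.mod_eq_of_lt (tab_spec hs a.2).1

theorem sT_fpP {s : ℕ} (hs : s < 5) (a : Fin 324) : rho (sT s) (fpP a) = fpP (tabF s a) := by
  refine Fin.ext ?_
  rw [val_sT hs, fpP_val, fpP_val, tabF_val hs]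
  exact (tab_spec hs a.2).2.1

/-- The orbit number of a point. -/
noncomputable def lab (x : Pt) : ℕ := lane 16 orbTab x / 8 % 8

/-- The facts checked at one point. -/
theorem orb_spec (x : Pt) : lab x < 6 ∧ (lab x = 0 ↔ lane 16 fIdx x ≠ 0) ∧
    (lane 16 fIdx x ≠ 0 → lane 16 fIdx x - 1 < 324 ∧ fp (lane 16 fIdx x - 1) = x) ∧
    (if lane 16 orbTab x / 64 = 0 then root (lab x) = x else
      ∃ s j : ℕ, s < 5 ∧ lane 16 (vec s) x = j ∧ j < 31671 ∧ lane 16 orbTab j / 64 < lane 16 orbTab x / 64 ∧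
        lane 16 orbTab j / 8 % 8 = lab x) := by
  have hx := pt_lt x
  obtain ⟨lo, hlo, hlo', hok⟩ : ∃ lo, lo ≤ (x : ℕ) ∧ (x : ℕ) < lo + 4000 ∧ orbOK lo = true := by
    rcases lt_or_ge (x : ℕ) 4000 with h | h
    · exact ⟨0, by omega, by omega, orb_check0⟩
    rcases lt_or_ge (x : ℕ) 8000 with h | h
    · exact ⟨4000, by omega, by omega, orb_check1⟩
    rcases lt_or_ge (x : ℕ) 12000 with h | h
    · exact ⟨8000, by omega, by omega, orb_check2⟩
    rcases lt_or_ge (x : ℕ) 16000 with h | h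
    · exact ⟨12000, by omega, by omega, orb_check3⟩
    rcases lt_or_ge (x : ℕ) 20000 with h | h
    · exact ⟨16000, by omega, by omega, orb_check4⟩
    rcases lt_or_ge (x : ℕ) 24000 with h | h
    · exact ⟨20000, by omega, by omega, orb_check5⟩
    rcases lt_or_ge (x : ℕ) 28000 with h | h
    · exact ⟨24000, by omega, by omega, orb_check6⟩
    · exact ⟨28000, by omega, by omega, orb_check7⟩
  simp only [orbOK, mkTree_eq, List.all_eq_true] at hok
  have h := hok ((x : ℕ) - lo) (List.mem_range.mpr (by omega))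
  rw [force_eq, show Nat.add lo ((x : ℕ) - lo) = x from Nat.add_sub_cancel' hlo] at h
  rw [show Nat.ble 31671 (x : ℕ) = false by
    rw [Bool.eq_false_iff]; exact fun h' => absurd (Nat.le_of_ble_eq_true h') (by omega)] at h
  simp only [Bool.false_or, force_eq, getT_lane (show (x : ℕ) < 32768 by omega)] at h
  simp only [Bool.and_eq_true, Bool.or_eq_true, Nat.blt_eq, beq_iff, beq_iff_eq] at h
  obtain ⟨⟨h1, h2, h3⟩, h4⟩ := h
  refine ⟨h1, ?_, fun hf => h3.resolve_left hf, ?_⟩
  · show lane 16 orbTab x / 8 % 8 = 0 ↔ _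
    rw [← beq_iff (a := lane 16 orbTab x / 8 % 8) (b := 0), h2, Bool.not_eq_true', Bool.eq_false_iff, Ne, beq_iff]
  · by_cases hd : lane 16 orbTab x / 64 = 0
    · rw [if_pos hd]
      rw [show Nat.beq (lane 16 orbTab x / 64) 0 = true from beq_iff.mpr hd] at h4
      exact beq_iff.mp h4
    · rw [if_neg hd]
      rw [show Nat.beq (lane 16 orbTab x / 64) 0 = false from Bool.eq_false_iff.mpr fun e => hd (beq_iff.mp e)] at h4
      simp only [cond_false, Bool.and_eq_true, Nat.blt_eq] at h4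
      obtain ⟨hs, he⟩ := h4
      have hp : pick [treeOf 4 vec0 0, treeOf 4 vec1 0, treeOf 4 vec2 0, treeOf 4 vec3 0, treeOf 4 vec4 0]
          (lane 16 orbTab x % 8) = treeOf 4 (vec (lane 16 orbTab x % 8)) 0 := by
        generalize lane 16 orbTab x % 8 = s at hs
        interval_cases s <;> rfl
      simp only [hp, edgeOK, force_eq, getT_lane (show (x : ℕ) < 32768 by omega), Bool.and_eq_true, Nat.blt_eq,
        beq_iff] at he
      obtain ⟨hj, he1, he2⟩ := he
      rw [getT_lane (show lane 16 (vec (lane 16 orbTab x % 8)) x < 32768 by omega)] at he1 he2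
      exact ⟨_, _, hs, rfl, hj, he1, he2⟩

/-- A property kept by the five spreads from a root over its orbit. -/
theorem orbit_induct {P : Pt → Prop} (hstep : ∀ s < 5, ∀ x, P x → P (rho (sT s) x)) (L : ℕ)
    (hroot : P (pnt (root L))) (x : Pt) (hx : lab x = L) : P x := by
  suffices H : ∀ d : ℕ, ∀ x : Pt, lane 16 orbTab x / 64 = d → lab x = L → P x from H _ x rfl hx
  intro d
  induction d using Nat.strong_induction_on with
  | _ d ih =>
    intro x hd hx
    obtain ⟨-, -, -, h⟩ := orb_spec x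
    by_cases h0 : lane 16 orbTab x / 64 = 0
    · rw [if_pos h0, hx] at h
      rwa [← pnt_self x, ← h]
    · rw [if_neg h0] at h
      obtain ⟨s, j, hs, hj, hjlt, hdep, hlab⟩ := h
      have e : rho (sT s) x = pnt j := Fin.ext (by rw [val_sT hs, hj, pnt_val hjlt])
      have hPj : P (pnt j) := ih _ (hd ▸ hdep) (pnt j) (by rw [pnt_val hjlt])
        (by show lane 16 orbTab (pnt j : ℕ) / 8 % 8 = L; rw [pnt_val hjlt, hlab, hx])
      have := hstep s hs _ hPj
      rwa [← e, sT_involutive] at this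

theorem fpP_lab (a : Fin 324) : lab (fpP a) = 0 := by
  rw [(orb_spec (fpP a)).2.1, fpP_val, (fp_spec a.2).2]
  omega

theorem exists_fpP_of_lab {x : Pt} (h : lab x = 0) : ∃ a : Fin 324, fpP a = x := by
  obtain ⟨h1, h2⟩ := (orb_spec x).2.2.1 ((orb_spec x).2.1.mp h)
  exact ⟨⟨_, h1⟩, Fin.ext ((fpP_val _).trans h2)⟩

end Cfsg.Agent.Fi23Max
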