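import Cfsg.Agent.Lib.Fi23Trans.Transpositions
import Cfsg.Agent.Lib.Fi23Sylow.Lookup

/-!
Points of the table of Fi23 as transpositions (helper41).

* `transp`, `transp_eq`, `transp_conj`, `transp_injective`, `transp_fix`, `transp_sq`
* `val_ev`, `ev_eq_transp`
-/

set_option autoImplicit false
set_option maxRecDepth 10000

namespace Cfsg.Agent.Fi23Max

open Cfsg.Agent.CosetEnum Cfsg.Agent.CosetEnum.Data
open Cfsg.Agent.Fi23Sylow (runW treesOf runW_eq ext_base baseRoots)

/-- The group. -/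
abbrev G : Type := fi23Setup.G

/-- A point. -/
abbrev Pt : Type := Fin fi23h.n

/-- The representation. -/
noncomputable abbrev rho : G →* Equiv.Perm Pt := Fi23Trans.rho

instance : Finite G := Fi23Trans.fi23_finite

theorem k_eq : fi23h.k = 10 := by decide +kernel

theorem n_eq : fi23h.n = 31671 := by decide +kernel

theorem val_ev (w : List ℕ) (hw : ∀ a ∈ w, a < fi23h.k) (x : Pt) :
    (rho (ev fi23Setup.el w) x : ℕ) = fi23h.tw w x := by
  rw [Fi23Trans.rho_ev w hw]
  exact Setup.ev_perm _ _ hw x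

theorem val_run (w : List ℕ) (hw : ∀ a ∈ w, a < fi23h.k) (x : Pt) :
    (rho (ev fi23Setup.el w) x : ℕ) = runW (treesOf 10) w x := by
  rw [runW_eq w hw x x.2]
  exact val_ev w hw x

theorem exists_to (i : Pt) : ∃ g : G, rho g Fi23Trans.pt0 = i := by
  have hch := fi23h_chain_check
  simp only [Bool.and_eq_true] at hch
  have h1 := hch.1
  change (fi23h.reachOK fi23h_base0 && _) = true at h1
  simp only [Bool.and_eq_true] at h1
  obtain ⟨-, hcard, hind⟩ := orbit_reach S1689.table.perm h1.1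
  have hall : Data.maskSet fi23h fi23h_base0 = {j | j < fi23h.n} := by
    refine Set.eq_of_subset_of_ncard_le (fun j hj => hj.1) ?_ (Set.finite_lt_nat _)
    rw [hcard, show {j | j < fi23h.n} = (Finset.range fi23h.n : Set ℕ) by ext; simp, Set.ncard_coe_finset,
      Finset.card_range, n_eq]
    rfl
  have hk : ∀ a : ℕ, a < 10 → a < fi23h.k := fun a h => by rw [k_eq]; exact h
  obtain ⟨g, hg⟩ : ∃ g : G, (rho g Fi23Trans.pt0 : ℕ) = i := by
    refine hind (P := fun j => ∃ g : G, (rho g Fi23Trans.pt0 : ℕ) = j) ⟨1, by simp [Fi23Trans.pt0]; rfl⟩ ?_ i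
      (hall ▸ i.2)
    rintro w hw j hj ⟨g, rfl⟩
    have hw' : ∀ a ∈ w, a < fi23h.k := by
      intro a ha
      refine hk a ?_
      simp only [fi23h_base0, List.mem_cons, List.not_mem_nil, or_false] at hw
      rcases hw with rfl | rfl | rfl | rfl | rfl | rfl | rfl | rfl | rfl | rfl <;> simp at ha <;> omega
    refine ⟨ev fi23Setup.el w * g, ?_⟩
    rw [map_mul, Equiv.Perm.mul_apply, val_ev w hw']
  exact ⟨g, Fin.ext hg⟩

/-- An element moving the root to a point. -/
noncomputable def toPt (i : Pt) : G := (exists_to i).choose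

theorem toPt_spec (i : Pt) : rho (toPt i) Fi23Trans.pt0 = i := (exists_to i).choose_spec

/-- The transposition of a point. -/
noncomputable def transp (i : Pt) : G := toPt i * Fi23Trans.z0 * (toPt i)⁻¹

theorem transp_eq {g : G} {i : Pt} (h : rho g Fi23Trans.pt0 = i) : transp i = g * Fi23Trans.z0 * g⁻¹ := by
  have hm : g⁻¹ * toPt i ∈ Fi23Trans.Hs := by
    rw [Fi23Trans.mem_Hs_iff, map_mul, map_inv, Equiv.Perm.mul_apply, Equiv.Perm.inv_eq_iff_eq, toPt_spec, h]
  have hc := Fi23Trans.z0_comm hm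
  rw [transp]
  calc toPt i * Fi23Trans.z0 * (toPt i)⁻¹ = g * (g⁻¹ * toPt i * Fi23Trans.z0) * (toPt i)⁻¹ := by group
    _ = _ := by rw [hc]; group

theorem transp_conj (g : G) (i : Pt) : transp (rho g i) = g * transp i * g⁻¹ := by
  rw [transp_eq (g := g * toPt i) (by rw [map_mul, Equiv.Perm.mul_apply, toPt_spec]), transp]
  group

theorem transp_injective : Function.Injective transp := by
  intro i j h
  have hm : (toPt j)⁻¹ * toPt i ∈ Fi23Trans.Hs := by
    rw [← Fi23Trans.centralizer_z0, Subgroup.mem_centralizer_singleton_iff]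
    calc (toPt j)⁻¹ * toPt i * Fi23Trans.z0 = (toPt j)⁻¹ * transp i * toPt i := by rw [transp]; group
      _ = _ := by rw [h, transp]; group
  rw [Fi23Trans.mem_Hs_iff, map_mul, map_inv, Equiv.Perm.mul_apply, Equiv.Perm.inv_eq_iff_eq, toPt_spec, toPt_spec] at hm
  exact hm

theorem transp_sq (i : Pt) : transp i * transp i = 1 := by
  rw [transp]
  calc _ = toPt i * (Fi23Trans.z0 * Fi23Trans.z0) * (toPt i)⁻¹ := by group
    _ = 1 := by rw [Fi23Trans.z0_sq]; group

theorem transp_inv (i : Pt) : (transp i)⁻¹ = transp i := inv_eq_of_mul_eq_one_right (transp_sq i)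

theorem rho_transp_involutive (i x : Pt) : rho (transp i) (rho (transp i) x) = x := by
  rw [← Equiv.Perm.mul_apply, ← map_mul, transp_sq, map_one, Equiv.Perm.one_apply]

theorem transp_fix {g : G} {i : Pt} : rho g i = i ↔ g * transp i = transp i * g := by
  rw [← transp_injective.eq_iff, transp_conj, mul_inv_eq_iff_eq_mul]

theorem ev_eq_transp {w u : List ℕ} {i : Pt} (hw : ∀ a ∈ w, a < fi23h.k) (hu : ∀ a ∈ u, a < fi23h.k)
    (hi : fi23h.tw u 0 = i) (hb : ∀ b ∈ baseRoots,
      runW (treesOf 10) w b = runW (treesOf 10) (Fi23Trans.dword u) b) :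
    ev fi23Setup.el w = transp i := by
  have hr : rho (ev fi23Setup.el u) Fi23Trans.pt0 = i := Fin.ext (by rw [val_ev u hu]; exact hi)
  have hd : ∀ a ∈ Fi23Trans.dword u, a < fi23h.k := by
    intro a ha
    simp only [Fi23Trans.dword, List.mem_append, List.mem_reverse] at ha
    rcases ha with (ha | ha) | ha
    exacts [hu a ha, Fi23Trans.zWord_lt a ha, hu a ha]
  rw [transp_eq hr, show ev fi23Setup.el u * Fi23Trans.z0 * (ev fi23Setup.el u)⁻¹
      = ev fi23Setup.el (Fi23Trans.dword u) by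
    rw [Fi23Trans.dword, ev_append, ev_append, Fi23Trans.ev_inv u hu, Fi23Trans.z0, mul_assoc]]
  refine ext_base fun b hb' x hx => Fin.ext ?_
  show (rho (ev fi23Setup.el w) x : ℕ) = (rho (ev fi23Setup.el (Fi23Trans.dword u)) x : ℕ)
  rw [val_run w hw, val_run _ hd, hx]
  exact hb b hb'

end Cfsg.Agent.Fi23Max
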