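import Cfsg.Agent.Lib.Fi23Max.Moves

/-!
The product of two of the 324 transpositions (helper41).

* `blk`, `part`, `pos`, `Ok`, `product_ok`
-/

set_option autoImplicit false
set_option maxRecDepth 10000

namespace Cfsg.Agent.Fi23Max

open Cfsg.Agent.CosetEnum Cfsg.Agent.CosetEnum.Data

/-- block -/
def blk (a : Fin 324) : ℕ := a / 36

/-- part -/
def part (a : Fin 324) : ℕ := a / 9

/-- position -/
def pos (a : Fin 324) : ℕ := a % 9

/-- Commuting distinct transpositions. -/
def Com (a b : Fin 324) : Prop := blk a = blk b ∧ part a ≠ part b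

/-- The rules for the conjugate `c` of `b` by `a`. -/
def Ok (a b c : Fin 324) : Prop :=
  (c = b ↔ (a = b ∨ Com a b)) ∧ (blk a ≠ blk b → blk c = thd (blk a) (blk b)) ∧
    (part a = part b → part c = part a ∧ pos c = thd (pos a) (pos b))

theorem tabF_tabF {s : ℕ} (hs : s < 5) (a : Fin 324) : tabF s (tabF s a) = a := by
  refine Fin.ext ?_
  rw [tabF_val hs, tabF_val hs]
  exact (tab_spec hs a.2).2.2

theorem struct_spec {s : ℕ} (hs : s < 5) :
    (∀ k < 324, tab s k / 36 = tab s (36 * (k / 36)) / 36 ∧ tab s k / 9 = tab s (9 * (k / 9)) / 9) ∧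
    (∀ x < 9, ∀ y < 9, tab s (36 * thd x y) / 36 = thd (tab s (36 * x) / 36) (tab s (36 * y) / 36)) ∧
    (∀ P < 36, ∀ x < 9, ∀ y < 9,
      tab s (9 * P + thd x y) % 9 = thd (tab s (9 * P + x) % 9) (tab s (9 * P + y) % 9)) := by
  have h := List.all_eq_true.mp struct_check s (List.mem_range.mpr hs)
  simp only [structOK, Bool.and_eq_true, List.all_eq_true, List.mem_range, beq_iff] at h
  exact h

theorem tab_blk {s : ℕ} (hs : s < 5) (a : Fin 324) : blk (tabF s a) = tab s (36 * blk a) / 36 := by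
  rw [blk, tabF_val hs]
  exact ((struct_spec hs).1 a a.2).1

theorem tab_part {s : ℕ} (hs : s < 5) (a : Fin 324) : part (tabF s a) = tab s (9 * part a) / 9 := by
  rw [part, tabF_val hs]
  exact ((struct_spec hs).1 a a.2).2

theorem ok_tab {s : ℕ} (hs : s < 5) {a b c : Fin 324} (h : Ok a b c) : Ok (tabF s a) (tabF s b) (tabF s c) := by
  obtain ⟨h1, h2, h3⟩ := h
  have inj : ∀ x y, tabF s x = tabF s y ↔ x = y :=
    fun x y => ⟨fun e => by rw [← tabF_tabF hs x, e, tabF_tabF hs], fun e => e ▸ rfl⟩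
  have hb : ∀ x y, blk (tabF s x) = blk (tabF s y) ↔ blk x = blk y := fun x y =>
    ⟨fun e => by
      have h1 := tab_blk hs (tabF s x)
      have h2 := tab_blk hs (tabF s y)
      rw [tabF_tabF hs] at h1 h2
      rw [h1, h2, e], fun e => by rw [tab_blk hs, tab_blk hs, e]⟩
  have hp : ∀ x y, part (tabF s x) = part (tabF s y) ↔ part x = part y := fun x y =>
    ⟨fun e => by
      have h1 := tab_part hs (tabF s x)
      have h2 := tab_part hs (tabF s y)
      rw [tabF_tabF hs] at h1 h2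
      rw [h1, h2, e], fun e => by rw [tab_part hs, tab_part hs, e]⟩
  refine ⟨?_, fun hne => ?_, fun he => ?_⟩
  · rw [inj, inj, h1, Com, Com, hb, ne_eq, ne_eq, hp]
  · have hne' : blk a ≠ blk b := fun e => hne ((hb a b).mpr e)
    have ha : blk a < 9 := by have := a.2; unfold blk; omega
    have hbl : blk b < 9 := by have := b.2; unfold blk; omega
    rw [tab_blk hs c, h2 hne', (struct_spec hs).2.1 _ ha _ hbl, ← tab_blk hs, ← tab_blk hs]
  · have he' : part a = part b := (hp a b).mp he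
    obtain ⟨hcp, hcq⟩ := h3 he'
    refine ⟨(hp c a).mpr hcp, ?_⟩
    have hP : part a < 36 := by have := a.2; unfold part; omega
    have hxa : pos a < 9 := Nat.mod_lt _ (by norm_num)
    have hxb : pos b < 9 := Nat.mod_lt _ (by norm_num)
    have e : ∀ x : Fin 324, (x : ℕ) = 9 * part x + pos x := fun x => (Nat.div_add_mod _ _).symm
    show (tabF s c : ℕ) % 9 = thd ((tabF s a : ℕ) % 9) ((tabF s b : ℕ) % 9)
    rw [tabF_val hs, tabF_val hs, tabF_val hs, e c, e a, e b, hcp, hcq, ← he']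
    exact (struct_spec hs).2.2 _ hP _ hxa _ hxb

theorem fpP_zero : pnt (nPt (sIdx.getD 0 0)) = fpP 0 := by
  have h := row_check
  simp only [Bool.and_eq_true, beq_iff] at h
  rw [h.2]
  rfl

theorem product_zero (b : Fin 324) : ∃ c, rho (transp (fpP 0)) (fpP b) = fpP c ∧ Ok 0 b c := by
  refine ⟨tabF 0 b, ?_, ?_⟩
  · rw [← fpP_zero]
    exact sT_fpP (by norm_num) b
  · have h := row_check
    simp only [Bool.and_eq_true, rowOK, List.all_eq_true] at h
    obtain ⟨h1, h2, h3⟩ := h.1 b (List.mem_range.mpr b.2)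
    simp only [Bool.or_eq_true, Bool.not_eq_true', beq_iff, Bool.and_eq_true, Bool.eq_false_iff, ne_eq,
      beq_iff_eq] at h1 h2 h3
    have hz : ((0 : Fin 324) : ℕ) = 0 := rfl
    refine ⟨?_, fun hne => ?_, fun he => ?_⟩
    · rw [Fin.ext_iff, tabF_val (by norm_num), ← beq_iff (a := tab 0 b) (b := (b : ℕ)), h1,
        Bool.or_eq_true, Bool.and_eq_true, Bool.not_eq_true', Bool.eq_false_iff, ne_eq, beq_iff, beq_iff, beq_iff]
      unfold Com blk part
      rw [Fin.ext_iff, hz]
      omega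
    · have hb : ¬ (b : ℕ) / 36 = 0 := fun e => hne (by unfold blk; rw [e]; rfl)
      show (tabF 0 b : ℕ) / 36 = thd (((0 : Fin 324) : ℕ) / 36) ((b : ℕ) / 36)
      rw [tabF_val (by norm_num), h2.resolve_left hb, hz]
    · have hb : (b : ℕ) / 9 = 0 := by rw [← show part b = (b : ℕ) / 9 from rfl, ← he]; rfl
      obtain ⟨q1, q2⟩ := h3.resolve_left (fun e => e hb)
      refine ⟨?_, ?_⟩
      · show (tabF 0 b : ℕ) / 9 = ((0 : Fin 324) : ℕ) / 9
        rw [tabF_val (by norm_num), q1, hz]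
      · show (tabF 0 b : ℕ) % 9 = thd (((0 : Fin 324) : ℕ) % 9) ((b : ℕ) % 9)
        rw [tabF_val (by norm_num), q2, hz]

theorem product_ok (a b : Fin 324) : ∃ c, rho (transp (fpP a)) (fpP b) = fpP c ∧ Ok a b c := by
  have h0 : pnt (root 0) = fpP 0 := by
    refine Fin.ext ?_
    rw [fpP_val, pnt_val (by decide +kernel)]
    decide +kernel
  refine orbit_induct (P := fun x => ∀ a : Fin 324, fpP a = x →
      ∀ b, ∃ c, rho (transp (fpP a)) (fpP b) = fpP c ∧ Ok a b c) ?_ 0 ?_ (fpP a) (fpP_lab a) a rfl b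
  · intro s hs x ih a ha b
    have hx : fpP (tabF s a) = x := by rw [← sT_fpP hs, ha, sT_involutive]
    obtain ⟨c, hc, hok⟩ := ih (tabF s a) hx (tabF s b)
    refine ⟨tabF s c, ?_, ?_⟩
    · have e : fpP a = rho (sT s) (fpP (tabF s a)) := by rw [sT_fpP hs, tabF_tabF hs]
      rw [e, transp_conj, map_mul, map_mul, Equiv.Perm.mul_apply, Equiv.Perm.mul_apply,
        show (sT s)⁻¹ = sT s from transp_inv _, sT_fpP hs b, hc, sT_fpP hs c]
    · have := ok_tab hs hok
      rwa [tabF_tabF hs, tabF_tabF hs] at this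
  · intro a ha b
    rw [h0] at ha
    rw [fpP_injective ha]
    exact product_zero b

end Cfsg.Agent.Fi23Max
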