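import Cfsg.Agent.Lib.Fi23Max.Points
import Cfsg.Agent.Lib.Fi23Max.Data
import Cfsg.Agent.Lib.Fi23Max.VecData

/-!
The named transpositions and the images of all points under five of them (helper41).

* `nPt`, `nWord`, `named_check`, `vec0_eq` .. `vec4_eq`
-/

set_option autoImplicit false
set_option maxRecDepth 100000

namespace Cfsg.Agent.Fi23Max

open Cfsg.Agent.CosetEnum
open Cfsg.Agent.Fi23Sylow (PTree runW forTrees forTrees_eq treesOf baseRoots)

/-- point of a named transposition -/
def nPt (k : ℕ) : ℕ := (named.getD k (0, [], [])).1

/-- short word of a named transposition -/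
def nWord (k : ℕ) : List ℕ := (named.getD k (0, [], [])).2.1

/-- path to the point -/
def nPath (k : ℕ) : List ℕ := (named.getD k (0, [], [])).2.2

/-- check for one name -/
noncomputable def namedOK (ts : List PTree) (k : ℕ) : Bool :=
  (nWord k).all (fun a => Nat.blt a 10) && ((nPath k).all (fun a => Nat.blt a 10) && (Nat.blt (nPt k) 31671 &&
    (Nat.beq (runW ts (nPath k) 0) (nPt k) && baseRoots.all fun b =>
      Nat.beq (runW ts (nWord k) b) (runW ts (Fi23Trans.dword (nPath k)) b))))

theorem named_check : (forTrees 10 fun ts => (List.range named.length).all (namedOK ts)) = true := by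
  decide +kernel

/-- word of one of the five -/
def sWord (s : ℕ) : List ℕ := nWord (sIdx.getD s 0)

theorem vec0_eq : Nat.beq (fi23h.trace (sWord 0)) vec0 = true := by decide +kernel

theorem vec1_eq : Nat.beq (fi23h.trace (sWord 1)) vec1 = true := by decide +kernel

theorem vec2_eq : Nat.beq (fi23h.trace (sWord 2)) vec2 = true := by decide +kernel

theorem vec3_eq : Nat.beq (fi23h.trace (sWord 3)) vec3 = true := by decide +kernel

theorem vec4_eq : Nat.beq (fi23h.trace (sWord 4)) vec4 = true := by decide +kernel

end Cfsg.Agent.Fi23Max
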